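import Cfsg.Agent.Lib.Characters.Coherence.Frobenius

/-!
# The congruence for characters constant on a central trivial intersection subgroup
-/

set_option linter.unusedSectionVars false
set_option linter.style.haveILetI false
set_option maxHeartbeats 800000

open scoped ComplexConjugate

namespace Cfsg.Lib.Characters.Coherence

/-- A sum of algebraic integers invariant under a free action is a multiple of the group order. -/
theorem free_sum {K X : Type*} [Group K] [Fintype K] [DecidableEq X] (act : K → X → X)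
    (h1 : ∀ x, act 1 x = x) (hmul : ∀ a b x, act (a * b) x = act a (act b x)) (s : Finset X)
    (hs : ∀ k, ∀ x ∈ s, act k x ∈ s) (hfree : ∀ k, ∀ x ∈ s, act k x = x → k = 1) (f : X → ℂ)
    (hf : ∀ k, ∀ x ∈ s, f (act k x) = f x) (hint : ∀ x, IsIntegral ℤ (f x)) :
    ∃ I : ℂ, IsIntegral ℤ I ∧ ∑ x ∈ s, f x = (Fintype.card K : ℂ) * I := by
  classical
  induction s using Finset.strongInduction with
  | H s ih =>
    rcases s.eq_empty_or_nonempty with rfl | ⟨x, hx⟩
    · exact ⟨0, isIntegral_zero, by simp⟩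
    set O := (Finset.univ : Finset K).image fun k => act k x with hO
    have hsub : O ⊆ s := fun y hy => by
      obtain ⟨k, -, rfl⟩ := Finset.mem_image.mp hy
      exact hs k x hx
    have hinj : Function.Injective fun k => act k x := by
      intro a b hab
      have h2 : act (b⁻¹ * a) x = x := by
        rw [hmul]; simp only at hab; rw [hab, ← hmul, inv_mul_cancel, h1]
      have := hfree _ x hx h2
      rw [inv_mul_eq_one] at this
      exact this.symm
    have hxO : x ∈ O := Finset.mem_image.mpr ⟨1, Finset.mem_univ _, h1 x⟩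
    have hlt : s \ O ⊂ s := Finset.sdiff_ssubset hsub ⟨x, hxO⟩
    have hs' : ∀ k, ∀ y ∈ s \ O, act k y ∈ s \ O := by
      intro k y hy
      obtain ⟨hy1, hy2⟩ := Finset.mem_sdiff.mp hy
      refine Finset.mem_sdiff.mpr ⟨hs k y hy1, fun h => hy2 ?_⟩
      obtain ⟨j, -, hj⟩ := Finset.mem_image.mp h
      exact Finset.mem_image.mpr ⟨k⁻¹ * j, Finset.mem_univ _, by
        rw [hmul, hj, ← hmul, inv_mul_cancel, h1]⟩
    obtain ⟨I, hI, hsum⟩ := ih _ hlt hs' (fun k y hy => hfree k y (Finset.mem_sdiff.mp hy).1)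
      (fun k y hy => hf k y (Finset.mem_sdiff.mp hy).1)
    refine ⟨I + f x, hI.add (hint x), ?_⟩
    rw [← Finset.sum_sdiff hsub, hsum, Finset.sum_image fun a _ b _ h => hinj h,
      Finset.sum_congr rfl fun k _ => hf k x hx, Finset.sum_const, Finset.card_univ, nsmul_eq_mul]
    ring

open Classical in
/-- Summing a character over products of two conjugacy classes. -/
theorem sum_class_product {G : Type*} [Group G] [Fintype G] {ψ : G → ℂ} (hψ : IsIrrCharacter G ψ)
    (a b : G) :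
    (∑ x with IsConj a x, ∑ y with IsConj b y, ψ (x * y)) * ψ 1 =
      ((Nat.card {x : G // IsConj a x} : ℂ) * ψ a) * ((Nat.card {x : G // IsConj b x} : ℂ) * ψ b) := by
  obtain ⟨n, ρ, hρ, rfl⟩ := hψ
  haveI := hρ
  obtain ⟨ω₁, h₁, -, h₁'⟩ := sum_conj_class ρ a
  obtain ⟨ω₂, h₂, -, h₂'⟩ := sum_conj_class ρ b
  have h := congrArg (LinearMap.trace ℂ (Fin n → ℂ)) (congrArg₂ (fun u v => u * v) h₁ h₂)
  simp only [Finset.sum_mul, Finset.mul_sum, map_sum, ← map_mul] at h
  rw [show (ω₁ • LinearMap.id : Module.End ℂ (Fin n → ℂ)) * (ω₂ • LinearMap.id) =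
    (ω₁ * ω₂) • LinearMap.id by ext; simp [Module.End.mul_eq_comp]; ring,
    map_smul, LinearMap.trace_id, smul_eq_mul] at h
  have h' : ∑ x with IsConj a x, ∑ y with IsConj b y, ρ.character (x * y) =
      ω₁ * ω₂ * ρ.character 1 := by
    rw [Representation.char_one, ← h]
    exact Finset.sum_comm
  rw [h', ← h₁', ← h₂']
  ring

variable {G : Type*} [Group G] [Fintype G] {L : Subgroup G} [Fintype L] {K : Subgroup L}

/-- An element of odd order is not inverted. -/
theorem not_isConj_inv {L : Type*} [Group L] [Finite L] (hodd : Odd (Nat.card L)) {a l : L}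
    (h : l * a * l⁻¹ = a⁻¹) : a = 1 := by
  have hcomm : Commute (l * l) a := by
    rw [commute_iff_eq]
    have h2 : l * l * a * (l * l)⁻¹ = a := by
      rw [show l * l * a * (l * l)⁻¹ = l * (l * a * l⁻¹) * l⁻¹ by group, h,
        show l * a⁻¹ * l⁻¹ = (l * a * l⁻¹)⁻¹ by group, h, inv_inv]
    exact mul_inv_eq_iff_eq_mul.mp h2
  obtain ⟨k, hk⟩ := hodd
  have hl : l = (l * l) ^ (k + 1) := by
    have h3 : l ^ (Nat.card L + 1) = l := by rw [pow_succ, pow_card_eq_one', one_mul]
    conv_lhs => rw [← h3, hk]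
    rw [← sq, ← pow_mul]
    ring_nf
  have hcl : Commute l a := hl ▸ hcomm.pow_left (k + 1)
  rw [hcl.eq, mul_inv_cancel_right] at h
  have h4 : a ^ 2 = 1 := by rw [sq]; exact eq_inv_iff_mul_eq_one.mp h
  have h5 : a ^ (2 * k + 1) = 1 := by rw [← hk]; exact pow_card_eq_one'
  rwa [pow_succ, pow_mul, h4, one_pow, one_mul] at h5

/-- A character of `G` constant on the nonidentity elements of a central subgroup `Z` of the
kernel: its degree minus that constant is divisible by the order of the kernel. -/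
theorem OddFrobTI.congruence [K.Normal] (hK : OddFrobTI L K) {Z : Subgroup L} [Z.Normal]
    (hZK : Z ≤ K) (hZ1 : Z ≠ ⊥) (hZc : ∀ z ∈ Z, ∀ k ∈ K, z * k = k * z) {ψ : G → ℂ}
    (hψ : IsIrrCharacter G ψ) {q : ℚ} (hq : ∀ z ∈ Z, z ≠ 1 → ψ (z : G) = (q : ℂ)) :
    ∃ m : ℤ, ψ 1 - (q : ℂ) = (Nat.card K : ℂ) * m := by
  classical
  haveI := Fintype.ofFinite K
  obtain ⟨a, haZ, ha1⟩ := Z.bot_or_exists_ne_one.resolve_left hZ1
  obtain ⟨D, hD⟩ := exists_degree hψ.isCharacter
  obtain ⟨n, hn⟩ : ∃ n : ℤ, (q : ℂ) = n :=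
    exists_int_of_isIntegral (hq a haZ ha1 ▸ char_isIntegral hψ.isCharacter _)
  have hinv : Nat.card {x : G // IsConj (a : G) x} = Nat.card {x : G // IsConj (a : G)⁻¹ x} := by
    refine Nat.card_congr ((Equiv.inv G).subtypeEquiv fun x => ?_)
    simp only [Equiv.inv_apply, isConj_iff]
    constructor
    · rintro ⟨c, hc⟩; exact ⟨c, by rw [← hc]; group⟩
    · rintro ⟨c, hc⟩; exact ⟨c, by rw [← inv_inv x, ← hc]; group⟩
  -- decomposition of the product sum
  set T : L → Finset G := fun b =>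
    Finset.univ.filter fun x => IsConj (b : G) x ∧ ∃ z ∈ Z, (z : G) = x with hT
  set P : L → ℂ := fun b =>
    ∑ x with IsConj (a : G) x, ∑ y with IsConj (b : G) y, ψ (x * y) with hP
  have hdec : ∀ b ∈ Z, b ≠ 1 → ∃ I : ℂ, IsIntegral ℤ I ∧ P b = (Nat.card K : ℂ) * I +
      (((T a).card * (T b).card : ℕ) : ℂ) * q +
      (((T a).filter fun x => x⁻¹ ∈ T b).card : ℂ) * ((D : ℂ) - q) := by
    intro b hb hb1
    set pairs : Finset (G × G) := (Finset.univ.filter fun x => IsConj (a : G) x) ×ˢ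
      (Finset.univ.filter fun y => IsConj (b : G) y) with hpairs
    set inner : Finset (G × G) := T a ×ˢ T b with hinner
    have hsub : inner ⊆ pairs := by
      intro p hp
      simp only [hinner, hpairs, hT, Finset.mem_product, Finset.mem_filter, Finset.mem_univ,
        true_and] at hp ⊢
      exact ⟨hp.1.1, hp.2.1⟩
    have hnorm : ∀ k : K, ∀ z ∈ Z, ((k : L) : G) * (z : G) * ((k : L) : G)⁻¹ = (z : G) := by
      intro k z hz
      have := congrArg Subtype.val (hZc z hz k k.2)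
      simp only [Subgroup.coe_mul] at this
      rw [← this, mul_inv_cancel_right]
    obtain ⟨I, hI, houter⟩ := free_sum
      (fun (k : K) (p : G × G) => (((k : L) : G) * p.1 * ((k : L) : G)⁻¹,
        ((k : L) : G) * p.2 * ((k : L) : G)⁻¹))
      (fun p => by simp) (fun k j p => by simp [mul_assoc]) (pairs \ inner)
      (fun k p hp => by
        simp only [hpairs, hinner, hT, Finset.mem_sdiff, Finset.mem_product, Finset.mem_filter,
          Finset.mem_univ, true_and] at hp ⊢
        refine ⟨⟨hp.1.1.trans (isConj_iff.mpr ⟨_, rfl⟩), hp.1.2.trans (isConj_iff.mpr ⟨_, rfl⟩)⟩,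
          fun h => hp.2 ?_⟩
        obtain ⟨⟨-, z, hz, hz'⟩, -, w, hw, hw'⟩ := h
        have e : ∀ u : G, ∀ v ∈ Z, (v : G) = ((k : L) : G) * u * ((k : L) : G)⁻¹ →
            (v : G) = u := by
          intro u v hv h'
          have hh := hnorm k v hv
          rw [h'] at hh
          rw [h']
          exact mul_left_cancel (mul_right_cancel hh)
        exact ⟨⟨hp.1.1, z, hz, e _ z hz hz'⟩, hp.1.2, w, hw, e _ w hw hw'⟩)
      (fun k p hp hfix => by
        by_contra hk1
        simp only [hpairs, hinner, hT, Finset.mem_sdiff, Finset.mem_product, Finset.mem_filter,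
          Finset.mem_univ, true_and] at hp
        obtain ⟨hf1, hf2⟩ := Prod.ext_iff.mp hfix
        have e : ∀ c ∈ Z, c ≠ 1 → ∀ u : G, IsConj (c : G) u →
            ((k : L) : G) * u * ((k : L) : G)⁻¹ = u → ∃ z ∈ Z, (z : G) = u := by
          intro c hc hc1 u hu hfixu
          have hcomm : ((k : L) : G) * u = u * ((k : L) : G) := mul_inv_eq_iff_eq_mul.mp hfixu
          have huL : u ∈ L := by
            by_contra h
            refine hk1 (Subtype.ext (Subtype.ext ?_))
            exact hK.ti u h (k : L) k.2 (k : L) k.2 (by rw [← hcomm, mul_inv_cancel_right])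
          have huK : (⟨u, huL⟩ : L) ∈ K :=
            hK.cent (k : L) k.2 (fun h => hk1 (Subtype.ext h))
              (Subgroup.mem_centralizer_singleton_iff.mpr (Subtype.ext hcomm.symm))
          obtain ⟨g, hg⟩ := isConj_iff.mp hu
          have hgL : g ∈ L := by
            by_contra h
            exact hc1 (Subtype.ext (hK.ti g h c (hZK hc) ⟨u, huL⟩ huK hg))
          exact ⟨⟨g, hgL⟩ * c * ⟨g, hgL⟩⁻¹, Subgroup.Normal.conj_mem inferInstance c hc _,
            by simpa using hg⟩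
        exact hp.2 ⟨⟨hp.1.1, e a haZ ha1 _ hp.1.1 hf1⟩, hp.1.2, e b hb hb1 _ hp.1.2 hf2⟩)
      (fun p => ψ (p.1 * p.2))
      (fun k p _ => by
        have := hψ.isClassFunction (p.1 * p.2) ((k : L) : G)
        simp only [mul_assoc, inv_mul_cancel_left] at this ⊢
        exact this)
      (fun p => char_isIntegral hψ.isCharacter _)
    refine ⟨I, hI, ?_⟩
    have hPb : P b = ∑ p ∈ pairs, ψ (p.1 * p.2) := by rw [hP, hpairs, Finset.sum_product]
    rw [hPb, ← Finset.sum_sdiff hsub, houter, ← Nat.card_eq_fintype_card]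
    have hval : ∀ p ∈ inner, ψ (p.1 * p.2) = (q : ℂ) + if p.1⁻¹ = p.2 then (D : ℂ) - q else 0 := by
      intro p hp
      simp only [hinner, hT, Finset.mem_product, Finset.mem_filter, Finset.mem_univ, true_and] at hp
      obtain ⟨⟨-, z, hz, hz'⟩, -, w, hw, hw'⟩ := hp
      split_ifs with h
      · rw [← h, mul_inv_cancel, hD, add_sub_cancel]
      · rw [add_zero, ← hz', ← hw', ← Subgroup.coe_mul]
        refine hq _ (Z.mul_mem hz hw) fun h' => h ?_
        rw [← hz', ← hw']
        exact inv_eq_of_mul_eq_one_right (by exact_mod_cast congrArg Subtype.val h')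
    have hin : ∑ p ∈ inner, ψ (p.1 * p.2) = (((T a).card * (T b).card : ℕ) : ℂ) * q +
        (((T a).filter fun x => x⁻¹ ∈ T b).card : ℂ) * ((D : ℂ) - q) := by
      rw [Finset.sum_congr rfl hval, Finset.sum_add_distrib, Finset.sum_const, nsmul_eq_mul,
        hinner, Finset.card_product, Finset.sum_product,
        Finset.sum_congr rfl fun x _ => Finset.sum_ite_eq (T b) x⁻¹ fun _ => (D : ℂ) - q,
        ← Finset.sum_filter, Finset.sum_const, nsmul_eq_mul]
    rw [hin]; ring
  have hai : a⁻¹ ≠ (1 : L) := inv_ne_one.mpr ha1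
  have hq2 := hq _ (Z.inv_mem haZ) hai
  simp only [Subgroup.coe_inv] at hq2
  -- both sums are equal
  have hPeq : P a = P a⁻¹ := by
    have hD0 : (ψ 1) ≠ 0 := hψ.one_ne_zero
    refine mul_right_cancel₀ hD0 ?_
    simp only [hP]
    rw [sum_class_product hψ, sum_class_product hψ, Subgroup.coe_inv, ← hinv, hq2, hq a haZ ha1]
  obtain ⟨I, hI, hPa⟩ := hdec a haZ ha1
  obtain ⟨J, hJ, hPai⟩ := hdec a⁻¹ (Z.inv_mem haZ) hai
  -- the counts
  have hTa : ∀ x, x ∈ T a ↔ ∃ l : L, x = ((l * a * l⁻¹ : L) : G) := by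
    intro x
    simp only [hT, Finset.mem_filter, Finset.mem_univ, true_and]
    constructor
    · rintro ⟨hc, z, hz, rfl⟩
      obtain ⟨g, hg⟩ := isConj_iff.mp hc
      have hgL : g ∈ L := by
        by_contra h
        exact ha1 (Subtype.ext (hK.ti g h a (hZK haZ) z (hZK hz) hg))
      exact ⟨⟨g, hgL⟩, by simp [← hg]⟩
    · rintro ⟨l, rfl⟩
      exact ⟨isConj_iff.mpr ⟨(l : G), by simp⟩, _, Subgroup.Normal.conj_mem inferInstance a haZ l, rfl⟩
  have hTai : ∀ x, x ∈ T a⁻¹ ↔ x⁻¹ ∈ T a := by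
    intro x
    simp only [hT, Finset.mem_filter, Finset.mem_univ, true_and, Subgroup.coe_inv, isConj_iff]
    constructor
    · rintro ⟨⟨c, hc⟩, z, hz, rfl⟩
      exact ⟨⟨c, by rw [← hc]; group⟩, z⁻¹, Z.inv_mem hz, by simp⟩
    · rintro ⟨⟨c, hc⟩, z, hz, hz'⟩
      exact ⟨⟨c, by rw [← inv_inv x, ← hc]; group⟩, z⁻¹, Z.inv_mem hz, by simp [hz']⟩
  have hnone : (T a).filter (fun x => x⁻¹ ∈ T a) = ∅ := by
    refine Finset.filter_eq_empty_iff.mpr fun x hx hx' => ha1 ?_
    obtain ⟨l, hl⟩ := (hTa x).mp hx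
    obtain ⟨l', hl'⟩ := (hTa x⁻¹).mp hx'
    have h : (l' * a * l'⁻¹ : L) = (l * a * l⁻¹)⁻¹ := by
      refine Subtype.ext ?_
      rw [← hl', Subgroup.coe_inv, ← hl]
    refine not_isConj_inv hK.odd (l := l⁻¹ * l') ?_
    calc l⁻¹ * l' * a * (l⁻¹ * l')⁻¹ = l⁻¹ * (l' * a * l'⁻¹) * l := by group
      _ = a⁻¹ := by rw [h]; group
  have hall : (T a).filter (fun x => x⁻¹ ∈ T a⁻¹) = T a :=
    Finset.filter_true_of_mem fun x hx => (hTai _).mpr (by simpa using hx)
  have hcard : (T a⁻¹).card = (T a).card :=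
    Finset.card_bij' (fun x _ => x⁻¹) (fun x _ => x⁻¹) (fun x hx => (hTai x).mp hx)
      (fun x hx => (hTai x⁻¹).mpr (by simpa using hx)) (by simp) (by simp)
  have hTcard : (T a).card = K.index := by
    have hcent : Subgroup.centralizer ({a} : Set L) = K := by
      refine le_antisymm (hK.cent a (hZK haZ) ha1) fun k hk => ?_
      exact Subgroup.mem_centralizer_singleton_iff.mpr (hZc a haZ k hk).symm
    rw [← hcent, ← card_conj_eq_index, Nat.card_eq_fintype_card, Fintype.card_subtype]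
    symm
    refine Finset.card_bij (fun x _ => (x : G)) (fun x hx => ?_)
      (fun x _ y _ h => Subtype.ext h) fun y hy => ?_
    · obtain ⟨l, rfl⟩ := isConj_iff.mp (Finset.mem_filter.mp hx).2
      exact (hTa _).mpr ⟨l, rfl⟩
    · obtain ⟨l, rfl⟩ := (hTa y).mp hy
      exact ⟨l * a * l⁻¹, Finset.mem_filter.mpr ⟨Finset.mem_univ _, isConj_iff.mpr ⟨l, rfl⟩⟩, rfl⟩
  rw [hnone, Finset.card_empty, Nat.cast_zero, zero_mul, add_zero] at hPa
  rw [hall, hcard] at hPai
  rw [hPeq, hPai, hTcard] at hPa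
  -- h divides e (D - n)
  have hdiff : ((K.index : ℂ) * ((D : ℂ) - n)) / (Nat.card K : ℂ) = I - J := by
    rw [div_eq_iff (Nat.cast_ne_zero.mpr Nat.card_pos.ne')]
    rw [hn] at hPa
    linear_combination hPa
  have hint : IsIntegral ℤ ((((((K.index : ℤ) * ((D : ℤ) - n) : ℤ) : ℚ) /
      ((Nat.card K : ℕ) : ℚ) : ℚ)) : ℂ) := by
    push_cast
    rw [hdiff]
    exact hI.sub hJ
  obtain ⟨m, hm⟩ := exists_int_of_isIntegral hint
  have hm' : (K.index : ℤ) * ((D : ℤ) - n) = (Nat.card K : ℤ) * m := by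
    push_cast at hm
    rw [div_eq_iff (Nat.cast_ne_zero.mpr Nat.card_pos.ne'), mul_comm (m : ℂ)] at hm
    exact_mod_cast hm
  have hdvd : (Nat.card K : ℤ) ∣ (D : ℤ) - n :=
    (Int.isCoprime_iff_gcd_eq_one.mpr (by
      simpa [Int.gcd_natCast_natCast] using hK.coprime_index.symm)).dvd_of_dvd_mul_left ⟨m, hm'⟩
  obtain ⟨c, hc⟩ := hdvd
  refine ⟨c, ?_⟩
  rw [hD, hn]
  exact_mod_cast hc

end Cfsg.Lib.Characters.Coherence
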