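import Cfsg.Agent.Lib.Characters.TI
import Cfsg.Agent.Lib.Characters.Integrality
import Cfsg.Agent.Lib.Characters.Isometry

/-!
# Coherent sets of characters relative to induction from a trivial intersection subgroup
-/

set_option linter.unusedSectionVars false
set_option linter.style.haveILetI false

open scoped ComplexConjugate

namespace Cfsg.Lib.Characters.Coherence

variable {G : Type*} [Group G] [Fintype G] {L : Subgroup G} [Fintype L] {K : Subgroup L}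

/-- The degree of a character as a natural number. -/
noncomputable def degC {X : Type*} [One X] (χ : X → ℂ) : ℕ := ⌊(χ 1).re⌋₊

theorem degC_spec {X : Type*} [Group X] {χ : X → ℂ} (h : IsCharacter X χ) :
    χ 1 = (degC χ : ℂ) := by
  obtain ⟨d, hd⟩ := exists_degree h
  simp [degC, hd]

theorem degC_pos {X : Type*} [Group X] {χ : X → ℂ} (h : IsIrrCharacter X χ) : 0 < degC χ := by
  refine Nat.pos_of_ne_zero fun h0 => h.one_ne_zero ?_
  rw [degC_spec h.isCharacter, h0, Nat.cast_zero]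

/-- `K ≤ L` is a trivial intersection subgroup of `G`, relative to `L`. -/
def TIPair (L : Subgroup G) (K : Subgroup L) : Prop :=
  ∀ g : G, g ∉ L → ∀ t ∈ K, ∀ s ∈ K, g * (t : G) * g⁻¹ = (s : G) → (t : G) = 1

/-- An irreducible character of `L` vanishing off `K`. -/
structure Supp (K : Subgroup L) (χ : L → ℂ) : Prop where
  irr : IsIrrCharacter L χ
  van : ∀ x, x ∉ K → χ x = 0

theorem TIPair.classInner_ind (hK : TIPair L K) {a b : L → ℂ} (ha : ∀ x, x ∉ K → a x = 0)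
    (hb : ∀ x, x ∉ K → b x = 0) (hbc : IsClassFunction L b) (ha1 : a 1 = 0) :
    classInner (indFun L a) (indFun L b) = classInner a b := by
  refine classInner_indFun_ti (T := Subtype.val '' (K : Set L)) ?_ ?_ hbc ?_ ha1
  · rintro g hg t ⟨t', ht', rfl⟩ ⟨s, hs, hs'⟩
    exact hK g hg t' ht' s hs hs'.symm
  · exact fun x hx => ha x fun h => hx ⟨x, h, rfl⟩
  · exact fun x hx => hb x fun h => hx ⟨x, h, rfl⟩

/-- The degree-free combination of two characters. -/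
noncomputable def comb (φ ψ : L → ℂ) : L → ℂ := (degC ψ : ℂ) • φ - (degC φ : ℂ) • ψ

/-- `φ - n φ₀`. -/
noncomputable def base (φ₀ φ : L → ℂ) (n : ℕ) : L → ℂ := φ - (n : ℂ) • φ₀

theorem base_apply_one {φ₀ φ : L → ℂ} {n : ℕ} (h₀ : IsCharacter L φ₀) (h : IsCharacter L φ)
    (hn : degC φ = n * degC φ₀) : base φ₀ φ n 1 = 0 := by
  simp [base, degC_spec h₀, degC_spec h, hn]

theorem base_van {φ₀ φ : L → ℂ} {n : ℕ} (h₀ : Supp K φ₀) (h : Supp K φ) :
    ∀ x, x ∉ K → base φ₀ φ n x = 0 := fun x hx => by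
  simp [base, h₀.van x hx, h.van x hx]

theorem base_gen {φ₀ φ : L → ℂ} {n : ℕ} (h₀ : IsCharacter L φ₀) (h : IsCharacter L φ) :
    IsGeneralizedCharacter L (base φ₀ φ n) :=
  ⟨φ, _, h, isCharacter_nsmul h₀ n, rfl⟩

theorem comb_eq_base {φ₀ φ : L → ℂ} {n : ℕ} (hn : degC φ = n * degC φ₀) :
    comb φ φ₀ = (degC φ₀ : ℂ) • base φ₀ φ n := by
  simp only [comb, base, hn, smul_sub, smul_smul, Nat.cast_mul]
  rw [mul_comm (n : ℂ)]

theorem TIPair.inner_base (hK : TIPair L K) {φ₀ φ ψ₀ ψ : L → ℂ} {n m : ℕ}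
    (hφ₀ : Supp K φ₀) (hφ : Supp K φ) (hψ₀ : Supp K ψ₀) (hψ : Supp K ψ)
    (hn : degC φ = n * degC φ₀) :
    classInner (indFun L (base φ₀ φ n)) (indFun L (base ψ₀ ψ m)) =
      classInner φ ψ - (m : ℂ) * classInner φ ψ₀ - (n : ℂ) * classInner φ₀ ψ
        + (n : ℂ) * (m : ℂ) * classInner φ₀ ψ₀ := by
  rw [hK.classInner_ind (base_van hφ₀ hφ) (base_van hψ₀ hψ)
    (isGeneralized_isClassFunction (base_gen hψ₀.irr.isCharacter hψ.irr.isCharacter))
    (base_apply_one hφ₀.irr.isCharacter hφ.irr.isCharacter hn)]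
  simp only [base, classInner_sub_left, classInner_sub_right, classInner_smul_left,
    classInner_smul_right, map_natCast]
  ring

theorem indFun_base_one {φ₀ φ : L → ℂ} {n : ℕ} (h₀ : IsCharacter L φ₀) (h : IsCharacter L φ)
    (hn : degC φ = n * degC φ₀) : indFun L (base φ₀ φ n) 1 = 0 := by
  rw [indFun_one_apply, base_apply_one h₀ h hn, mul_zero]

/-- A coherent labelling of a finite set of characters of `L`. -/
structure CohData (L : Subgroup G) [Fintype L] (𝒮 : Finset (L → ℂ)) (ε : ℤ)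
    (μ : (L → ℂ) → G → ℂ) : Prop where
  sign : ε = 1 ∨ ε = -1
  irr : ∀ φ ∈ 𝒮, IsIrrCharacter G (μ φ)
  inj : Set.InjOn μ (𝒮 : Set (L → ℂ))
  rel : ∀ φ ∈ 𝒮, ∀ ψ ∈ 𝒮, indFun L (comb φ ψ) =
    (ε : ℂ) • ((degC ψ : ℂ) • μ φ - (degC φ : ℂ) • μ ψ)

/-- Coherence. -/
def IsCohTI (L : Subgroup G) [Fintype L] (𝒮 : Finset (L → ℂ)) : Prop :=
  ∃ ε μ, CohData L 𝒮 ε μ

theorem sign_sq {ε : ℤ} (h : ε = 1 ∨ ε = -1) : (ε : ℂ) * (ε : ℂ) = 1 := by
  rcases h with rfl | rfl <;> norm_num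

theorem conj_intCast' (ε : ℤ) : conj (ε : ℂ) = (ε : ℂ) := map_intCast _ _

theorem CohData.mono {𝒮 𝒯 : Finset (L → ℂ)} {ε : ℤ} {μ : (L → ℂ) → G → ℂ} (h : CohData L 𝒮 ε μ)
    (hsub : 𝒯 ⊆ 𝒮) : CohData L 𝒯 ε μ :=
  ⟨h.sign, fun φ hφ => h.irr φ (hsub hφ), h.inj.mono (by exact_mod_cast hsub),
    fun φ hφ ψ hψ => h.rel φ (hsub hφ) ψ (hsub hψ)⟩

theorem CohData.rel_base {𝒮 : Finset (L → ℂ)} {ε : ℤ} {μ : (L → ℂ) → G → ℂ}
    (h : CohData L 𝒮 ε μ) {φ₀ φ : L → ℂ} (h₀ : φ₀ ∈ 𝒮) (hφ : φ ∈ 𝒮)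
    (hirr : IsIrrCharacter L φ₀) {n : ℕ} (hn : degC φ = n * degC φ₀) :
    indFun L (base φ₀ φ n) = (ε : ℂ) • (μ φ - (n : ℂ) • μ φ₀) := by
  have hne : (degC φ₀ : ℂ) ≠ 0 := Nat.cast_ne_zero.mpr (degC_pos hirr).ne'
  have h1 := h.rel φ hφ φ₀ h₀
  rw [comb_eq_base hn, indFun_smul] at h1
  refine smul_right_injective (G → ℂ) hne ?_
  simp only
  rw [h1, hn]
  funext g
  simp only [Pi.smul_apply, Pi.sub_apply, smul_eq_mul, Nat.cast_mul]
  ring

/-- Coherence is determined by the combinations with a base character. -/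
theorem CohData.of_base {𝒮 : Finset (L → ℂ)} {ε : ℤ} {μ : (L → ℂ) → G → ℂ}
    (hsign : ε = 1 ∨ ε = -1) (hirr : ∀ φ ∈ 𝒮, IsIrrCharacter G (μ φ))
    (hinj : Set.InjOn μ (𝒮 : Set (L → ℂ))) (φ₀ : L → ℂ) (hφ₀ : IsIrrCharacter L φ₀)
    (h : ∀ φ ∈ 𝒮, ∃ n : ℕ, degC φ = n * degC φ₀ ∧
      indFun L (base φ₀ φ n) = (ε : ℂ) • (μ φ - (n : ℂ) • μ φ₀)) : CohData L 𝒮 ε μ := by
  refine ⟨hsign, hirr, hinj, fun φ hφ ψ hψ => ?_⟩
  obtain ⟨n, hn, hn'⟩ := h φ hφ
  obtain ⟨m, hm, hm'⟩ := h ψ hψ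
  have hcomb : comb φ ψ = (degC φ₀ : ℂ) • ((m : ℂ) • base φ₀ φ n - (n : ℂ) • base φ₀ ψ m) := by
    funext x
    simp only [comb, base, hn, hm, Pi.smul_apply, Pi.sub_apply, smul_eq_mul, Nat.cast_mul]
    ring
  rw [hcomb, indFun_smul, indFun_sub, indFun_smul, indFun_smul, hn', hm', hn, hm]
  funext g
  simp only [Pi.smul_apply, Pi.sub_apply, smul_eq_mul, Nat.cast_mul]
  ring

theorem CohData.apply_one {𝒮 : Finset (L → ℂ)} {ε : ℤ} {μ : (L → ℂ) → G → ℂ}
    (h : CohData L 𝒮 ε μ) {φ₀ φ : L → ℂ} (h₀ : φ₀ ∈ 𝒮) (hφ : φ ∈ 𝒮)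
    (hirr₀ : IsIrrCharacter L φ₀) (hirr : IsIrrCharacter L φ) {n : ℕ}
    (hn : degC φ = n * degC φ₀) : μ φ 1 = (n : ℂ) * μ φ₀ 1 := by
  have h1 := congrFun (h.rel_base h₀ hφ hirr₀ hn) 1
  rw [indFun_base_one hirr₀.isCharacter hirr.isCharacter hn] at h1
  have hs : (ε : ℂ) ≠ 0 := by rcases h.sign with rfl | rfl <;> norm_num
  simp only [Pi.smul_apply, Pi.sub_apply, smul_eq_mul, zero_eq_mul, hs, false_or] at h1
  exact sub_eq_zero.mp h1

/-- Removing the components along a finite orthonormal family. -/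
theorem rest_spec {ι : Type*} (I : Finset ι) (μ : ι → G → ℂ)
    (hμ : ∀ i ∈ I, IsIrrCharacter G (μ i)) (hinj : Set.InjOn μ (I : Set ι)) {f : G → ℂ}
    (hf : IsGeneralizedCharacter G f) (a : ι → ℤ)
    (ha : ∀ i ∈ I, classInner f (μ i) = (a i : ℂ)) :
    IsGeneralizedCharacter G (f - ∑ i ∈ I, (a i : ℂ) • μ i) ∧
    (∀ j ∈ I, classInner (f - ∑ i ∈ I, (a i : ℂ) • μ i) (μ j) = 0) ∧
    classInner (f - ∑ i ∈ I, (a i : ℂ) • μ i) (f - ∑ i ∈ I, (a i : ℂ) • μ i) =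
      classInner f f - ∑ i ∈ I, (a i : ℂ) ^ 2 := by
  classical
  have horth : ∀ j ∈ I, classInner (f - ∑ i ∈ I, (a i : ℂ) • μ i) (μ j) = 0 := by
    intro j hj
    rw [classInner_sub_left, classInner_sum_left, ha j hj, Finset.sum_eq_single_of_mem j hj,
      classInner_smul_left, classInner_irr_self (hμ j hj), mul_one, sub_self]
    intro i hi hij
    rw [classInner_smul_left, classInner_irr_ne (hμ i hi) (hμ j hj)
      fun h => hij (hinj hi hj h), mul_zero]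
  refine ⟨isGeneralized_sub hf (Finset.sum_induction _ (IsGeneralizedCharacter G)
    (fun _ _ => isGeneralized_add) (isGeneralized_of_isCharacter isCharacter_zero) fun i hi =>
      isGeneralized_zsmul (isGeneralized_of_isCharacter (hμ i hi).isCharacter) _), horth, ?_⟩
  set r := f - ∑ i ∈ I, (a i : ℂ) • μ i
  have h1 : classInner r (∑ i ∈ I, (a i : ℂ) • μ i) = 0 := by
    rw [classInner_sum_right]
    exact Finset.sum_eq_zero fun i hi => by rw [classInner_smul_right, horth i hi, mul_zero]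
  calc classInner r r = classInner r f - classInner r (∑ i ∈ I, (a i : ℂ) • μ i) := by
        rw [← classInner_sub_right]
    _ = classInner r f := by rw [h1, sub_zero]
    _ = classInner f f - ∑ i ∈ I, (a i : ℂ) ^ 2 := by
        simp only [r]
        rw [classInner_sub_left, classInner_sum_left]
        congr 1
        refine Finset.sum_congr rfl fun i hi => ?_
        rw [classInner_smul_left, ← conj_classInner, ha i hi, map_intCast, sq]

theorem gen_norm_nonneg {f : G → ℂ} (hf : IsGeneralizedCharacter G f) :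
    ∃ k : ℕ, classInner f f = k ∧ (k = 0 → f = 0) := by
  obtain ⟨a, -, ha⟩ := exists_coeff hf
  refine ⟨(∑ χ, a χ ^ 2).toNat, ?_, fun h => classInner_self_eq_zero ?_⟩
  · rw [ha]
    have : ((∑ χ, a χ ^ 2).toNat : ℤ) = ∑ χ, a χ ^ 2 :=
      Int.toNat_of_nonneg (Finset.sum_nonneg fun χ _ => sq_nonneg _)
    exact_mod_cast congrArg (fun z : ℤ => (z : ℂ)) this.symm
  · have h0 : (∑ χ, a χ ^ 2) = 0 :=
      le_antisymm (Int.toNat_eq_zero.mp h) (Finset.sum_nonneg fun χ _ => sq_nonneg _)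
    rw [ha, h0, Int.cast_zero]

end Cfsg.Lib.Characters.Coherence
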