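import Cfsg.Agent.Lib.Characters.Coherence.Defs

/-!
# Criteria for coherence
-/

set_option linter.unusedSectionVars false
set_option linter.style.haveILetI false

open scoped ComplexConjugate

namespace Cfsg.Lib.Characters.Coherence

variable {G : Type*} [Group G] [Fintype G] {L : Subgroup G} [Fintype L] {K : Subgroup L}

theorem inner_irr [DecidableEq (L → ℂ)] {φ ψ : L → ℂ} (hφ : Supp K φ) (hψ : Supp K ψ) :
    classInner φ ψ = if φ = ψ then 1 else 0 := by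
  split_ifs with h
  · rw [h, classInner_irr_self hψ.irr]
  · exact classInner_irr_ne hφ.irr hψ.irr h

/-- Characters of equal degree form a coherent set. -/
theorem star (hK : TIPair L K) (𝒮 : Finset (L → ℂ)) (hS : ∀ φ ∈ 𝒮, Supp K φ)
    (hdeg : ∀ φ ∈ 𝒮, ∀ ψ ∈ 𝒮, degC φ = degC ψ) : IsCohTI L 𝒮 := by
  classical
  rcases 𝒮.eq_empty_or_nonempty with rfl | ⟨φ₀, h₀⟩
  · exact ⟨1, fun _ => fun _ => 1, Or.inl rfl, by simp, by simp, by simp⟩
  have hn : ∀ φ ∈ 𝒮, degC φ = 1 * degC φ₀ := fun φ hφ => by rw [one_mul]; exact hdeg φ hφ φ₀ h₀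
  have hinner : ∀ φ ∈ 𝒮, ∀ ψ ∈ 𝒮, φ ≠ φ₀ → ψ ≠ φ₀ →
      classInner (indFun L (base φ₀ φ 1)) (indFun L (base φ₀ ψ 1)) =
        (if φ = ψ then 1 else 0) + 1 := by
    intro φ hφ ψ hψ hφ₀ hψ₀
    rw [hK.inner_base (hS _ h₀) (hS φ hφ) (hS _ h₀) (hS ψ hψ) (hn φ hφ),
      inner_irr (hS φ hφ) (hS ψ hψ), inner_irr (hS φ hφ) (hS _ h₀),
      inner_irr (hS _ h₀) (hS ψ hψ), inner_irr (hS _ h₀) (hS _ h₀)]
    simp [hφ₀, Ne.symm hψ₀]
  obtain ⟨ε, hε, μ, hμ, hinj, hrel⟩ := exists_star (G := G) (⟨φ₀, h₀⟩ : {φ // φ ∈ 𝒮})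
    (fun i => indFun L (base φ₀ i.1 1))
    (by rw [show base φ₀ φ₀ 1 = φ₀ - φ₀ by simp [base], indFun_sub, sub_self])
    (fun i => isGeneralized_indFun L (base_gen (hS _ h₀).irr.isCharacter (hS _ i.2).irr.isCharacter))
    (fun i => indFun_base_one (hS _ h₀).irr.isCharacter (hS _ i.2).irr.isCharacter (hn _ i.2))
    (fun i j hi hj hij => by
      rw [hinner _ i.2 _ j.2 (fun h => hi (Subtype.ext h)) (fun h => hj (Subtype.ext h)),
        if_neg (fun h => hij (Subtype.ext h)), zero_add])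
    (fun i hi => by
      rw [hinner _ i.2 _ i.2 (fun h => hi (Subtype.ext h)) (fun h => hi (Subtype.ext h)), if_pos rfl]
      norm_num)
  obtain ⟨ε', hε', hεε'⟩ : ∃ ε' : ℤ, (ε' = 1 ∨ ε' = -1) ∧ ε = (ε' : ℂ) := by
    rcases hε with rfl | rfl
    · exact ⟨1, Or.inl rfl, by simp⟩
    · exact ⟨-1, Or.inr rfl, by simp⟩
  refine ⟨ε', fun φ => if h : φ ∈ 𝒮 then μ ⟨φ, h⟩ else fun _ => 1,
    CohData.of_base hε' (fun φ hφ => ?_) ?_ φ₀ (hS _ h₀).irr fun φ hφ => ⟨1, hn φ hφ, ?_⟩⟩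
  · simp only [dif_pos hφ]; exact hμ _
  · intro a ha b hb hab
    rw [Finset.mem_coe] at ha hb
    simp only [dif_pos ha, dif_pos hb] at hab
    exact congrArg Subtype.val (hinj hab)
  · simp only [dif_pos hφ, dif_pos h₀, Nat.cast_one, one_smul]
    rw [← hεε']
    exact hrel ⟨φ, hφ⟩

/-- Adding one character to a coherent set. -/
theorem CohData.extend (hK : TIPair L K) {𝒮 : Finset (L → ℂ)} {ε : ℤ} {μ : (L → ℂ) → G → ℂ}
    (h : CohData L 𝒮 ε μ) (hS : ∀ φ ∈ 𝒮, Supp K φ) {χ : L → ℂ} (hχ : Supp K χ) (hnot : χ ∉ 𝒮)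
    {φ₀ : L → ℂ} (h₀ : φ₀ ∈ 𝒮) (hdiv : ∀ φ ∈ 𝒮, degC φ₀ ∣ degC φ) (hdvd : degC φ₀ ∣ degC χ)
    (hlt : 2 * degC χ * degC φ₀ < ∑ φ ∈ 𝒮, degC φ ^ 2)
    [DecidableEq (L → ℂ)] : IsCohTI L (insert χ 𝒮) := by
  classical
  obtain ⟨d, hd⟩ := hdvd
  rw [mul_comm] at hd
  have hd₀ := degC_pos (hS _ h₀).irr
  have hdpos : 0 < d := by
    have := degC_pos hχ.irr
    rw [hd] at this
    exact Nat.pos_of_mul_pos_right this
  choose! n hn using hdiv
  have hn' : ∀ φ ∈ 𝒮, degC φ = n φ * degC φ₀ := fun φ hφ => by rw [hn φ hφ, mul_comm]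
  have hn0 : n φ₀ = 1 := by
    have h' := hn' φ₀ h₀
    exact Nat.eq_of_mul_eq_mul_right hd₀ (by rw [one_mul]; exact h'.symm)
  have hsum : 2 * d < ∑ φ ∈ 𝒮, n φ ^ 2 := by
    rw [Finset.sum_congr rfl fun φ hφ => by rw [hn' φ hφ, mul_pow], ← Finset.sum_mul, hd] at hlt
    refine Nat.lt_of_mul_lt_mul_right (a := degC φ₀ ^ 2) ?_
    linarith [show 2 * (d * degC φ₀) * degC φ₀ = 2 * d * degC φ₀ ^ 2 by ring]
  set F := indFun L (base φ₀ χ d) with hF
  set f := (ε : ℂ) • F with hf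
  have hFgen : IsGeneralizedCharacter G F :=
    isGeneralized_indFun L (base_gen (hS _ h₀).irr.isCharacter hχ.irr.isCharacter)
  have hfgen : IsGeneralizedCharacter G f := isGeneralized_zsmul hFgen ε
  have hne : ∀ φ ∈ 𝒮, χ ≠ φ := fun φ hφ h' => hnot (h' ▸ hφ)
  have hFF : classInner F F = 1 + (d : ℂ) ^ 2 := by
    rw [hF, hK.inner_base (hS _ h₀) hχ (hS _ h₀) hχ hd, inner_irr hχ hχ, inner_irr hχ (hS _ h₀),
      inner_irr (hS _ h₀) hχ, inner_irr (hS _ h₀) (hS _ h₀)]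
    simp [hne _ h₀, Ne.symm (hne _ h₀)]
    ring
  have hff : classInner f f = 1 + (d : ℂ) ^ 2 := by
    rw [hf, classInner_smul_left, classInner_smul_right, conj_intCast', hFF, ← mul_assoc,
      sign_sq h.sign, one_mul]
  have hf1 : f 1 = 0 := by
    simp [hf, hF, indFun_base_one (hS _ h₀).irr.isCharacter hχ.irr.isCharacter hd]
  choose! a ha using fun φ (hφ : φ ∈ 𝒮) =>
    classInner_int hfgen (isGeneralized_of_isCharacter (h.irr φ hφ).isCharacter)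
  set A : ℤ := a φ₀ + d with hA
  have ha' : ∀ φ ∈ 𝒮, a φ = A * n φ - (if φ = φ₀ then (d : ℤ) else 0) := by
    intro φ hφ
    by_cases hφ₀ : φ = φ₀
    · subst hφ₀; simp [hn0, hA]
    · have h1 : classInner F (indFun L (base φ₀ φ (n φ))) = (d : ℂ) * n φ := by
        rw [hF, hK.inner_base (hS _ h₀) hχ (hS _ h₀) (hS φ hφ) hd, inner_irr hχ (hS φ hφ),
          inner_irr hχ (hS _ h₀), inner_irr (hS _ h₀) (hS φ hφ), inner_irr (hS _ h₀) (hS _ h₀)]
        simp [hne _ h₀, hne _ hφ, Ne.symm hφ₀]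
      have h2 : classInner f (μ φ - (n φ : ℂ) • μ φ₀) = (d : ℂ) * n φ := by
        rw [← h1, h.rel_base h₀ hφ (hS _ h₀).irr (hn' φ hφ), hf, classInner_smul_left,
          classInner_smul_right, conj_intCast']
      rw [classInner_sub_right, classInner_smul_right, map_natCast, ha φ hφ, ha φ₀ h₀] at h2
      rw [if_neg hφ₀, sub_zero, hA]
      have h3 : (a φ : ℤ) - n φ * a φ₀ = d * n φ := by exact_mod_cast h2
      linarith
  obtain ⟨hrgen, hrorth, hrnorm⟩ := rest_spec 𝒮 μ h.irr h.inj hfgen a ha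
  set r := f - ∑ φ ∈ 𝒮, (a φ : ℂ) • μ φ with hr
  set Sg : ℤ := ∑ φ ∈ 𝒮, (n φ : ℤ) ^ 2 with hSg
  have hSig : 2 * (d : ℤ) < Sg := by rw [hSg]; exact_mod_cast hsum
  have hsq : ∑ φ ∈ 𝒮, (a φ) ^ 2 = A ^ 2 * Sg - 2 * A * d + (d : ℤ) ^ 2 := by
    have : ∀ φ ∈ 𝒮, a φ ^ 2 =
        A ^ 2 * (n φ : ℤ) ^ 2 + (if φ = φ₀ then (d : ℤ) ^ 2 - 2 * A * d else 0) := by
      intro φ hφ
      rw [ha' φ hφ]
      split_ifs with h'
      · subst h'; rw [hn0]; push_cast; ring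
      · ring
    rw [Finset.sum_congr rfl this, Finset.sum_add_distrib, Finset.sum_ite_eq', if_pos h₀,
      ← Finset.mul_sum]
    ring
  obtain ⟨k, hk, hk0⟩ := gen_norm_nonneg hrgen
  have hkeq : (k : ℤ) = 1 + 2 * A * d - A ^ 2 * Sg := by
    have h4 : ((k : ℤ) : ℂ) = ((1 + (d : ℤ) ^ 2 - ∑ φ ∈ 𝒮, (a φ) ^ 2 : ℤ) : ℂ) := by
      push_cast; rw [← hk, hrnorm, hff]
    rw [Int.cast_inj.mp h4, hsq]
    ring
  have hμ1 : ∀ φ ∈ 𝒮, μ φ 1 = (n φ : ℂ) * μ φ₀ 1 := fun φ hφ =>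
    h.apply_one h₀ hφ (hS _ h₀).irr (hS φ hφ).irr (hn' φ hφ)
  have hsum1 : (∑ φ ∈ 𝒮, (a φ : ℂ) • μ φ) 1 = ((A * Sg - d : ℤ) : ℂ) * μ φ₀ 1 := by
    rw [Finset.sum_apply]
    calc ∑ φ ∈ 𝒮, ((a φ : ℂ) • μ φ) 1
        = ∑ φ ∈ 𝒮, (((A * (n φ : ℤ) ^ 2 - (if φ = φ₀ then (d : ℤ) else 0) : ℤ)) : ℂ) * μ φ₀ 1 := by
          refine Finset.sum_congr rfl fun φ hφ => ?_
          rw [Pi.smul_apply, smul_eq_mul, hμ1 φ hφ, ha' φ hφ]
          split_ifs with h'
          · subst h'; rw [hn0]; push_cast; ring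
          · push_cast; ring
      _ = _ := by
          rw [← Finset.sum_mul, ← Int.cast_sum, Finset.sum_sub_distrib, Finset.sum_ite_eq',
            if_pos h₀, ← Finset.mul_sum]
  have hA0 : A = 0 := by
    by_contra hAne
    have h5 : 0 ≤ 1 + 2 * A * d - A ^ 2 * Sg := hkeq ▸ Int.natCast_nonneg k
    rcases le_or_gt A (-1) with hneg | hnneg
    · nlinarith
    · have hA1 : 1 ≤ A := by omega
      have hA1' : A = 1 := by
        by_contra h'
        have : 2 ≤ A := by omega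
        nlinarith [mul_le_mul_of_nonneg_left (Int.add_one_le_iff.mpr hSig) (sq_nonneg A),
          mul_nonneg (mul_nonneg (by omega : (0 : ℤ) ≤ A) (by omega : 0 ≤ A - 1))
            (Int.natCast_nonneg d)]
      have hS2 : Sg = 2 * d + 1 := by rw [hA1'] at h5; linarith
      have hk' : k = 0 := by
        have : (k : ℤ) = 0 := by rw [hkeq, hA1', hS2]; ring
        exact_mod_cast this
      have h6 := congrFun (hk0 hk') 1
      simp only [hr, Pi.sub_apply, hf1, zero_sub, Pi.zero_apply, neg_eq_zero] at h6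
      rw [hsum1] at h6
      rcases mul_eq_zero.mp h6 with h7 | h7
      · have : A * Sg - d = 0 := by exact_mod_cast h7
        rw [hA1', hS2] at this
        omega
      · exact (h.irr _ h₀).one_ne_zero h7
  have hr1 : classInner r r = 1 := by
    have : (k : ℤ) = 1 := by rw [hkeq, hA0]; ring
    rw [hk, show k = 1 by exact_mod_cast this, Nat.cast_one]
  have hsumeq : ∑ φ ∈ 𝒮, (a φ : ℂ) • μ φ = (-(d : ℂ)) • μ φ₀ := by
    rw [Finset.sum_eq_single_of_mem φ₀ h₀ fun φ hφ h' => by simp [ha' φ hφ, hA0, h']]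
    congr 1
    simp [ha' φ₀ h₀, hA0]
  have hfr : f = r - (d : ℂ) • μ φ₀ := by
    rw [hr, hsumeq, neg_smul, sub_neg_eq_add, add_sub_cancel_right]
  have hrirr : IsIrrCharacter G r := by
    rcases isGeneralized_norm_one hrgen hr1 with h' | h'
    · exact h'
    · exfalso
      obtain ⟨e₁, he₁, he₁'⟩ := h'.exists_degree_pos
      obtain ⟨e₂, he₂, he₂'⟩ := (h.irr _ h₀).exists_degree_pos
      have h8 := congrFun hfr 1
      rw [hf1, Pi.sub_apply, Pi.smul_apply, smul_eq_mul, he₂',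
        show r 1 = -(e₁ : ℂ) by rw [← he₁', Pi.neg_apply, neg_neg]] at h8
      have h9 : ((e₁ + d * e₂ : ℕ) : ℂ) = 0 := by push_cast; linear_combination h8
      rw [Nat.cast_eq_zero] at h9
      omega
  have hnew : ∀ φ ∈ 𝒮, μ φ ≠ r := fun φ hφ h' => by
    have h10 := hrorth φ hφ
    rw [h', classInner_irr_self hrirr] at h10
    exact one_ne_zero h10
  refine ⟨ε, Function.update μ χ r, CohData.of_base h.sign (fun φ hφ => ?_) ?_ φ₀ (hS _ h₀).irr
    fun φ hφ => ?_⟩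
  · rcases Finset.mem_insert.mp hφ with rfl | hφ
    · simpa using hrirr
    · rw [Function.update_of_ne (Ne.symm (hne φ hφ))]; exact h.irr φ hφ
  · intro x hx y hy hxy
    rcases Finset.mem_insert.mp hx with hx' | hx' <;> rcases Finset.mem_insert.mp hy with hy' | hy'
    · exact hx'.trans hy'.symm
    · rw [hx', Function.update_self, Function.update_of_ne (Ne.symm (hne y hy'))] at hxy
      exact absurd hxy.symm (hnew y hy')
    · rw [hy', Function.update_self, Function.update_of_ne (Ne.symm (hne x hx'))] at hxy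
      exact absurd hxy (hnew x hx')
    · rw [Function.update_of_ne (Ne.symm (hne x hx')), Function.update_of_ne (Ne.symm (hne y hy'))] at hxy
      exact h.inj hx' hy' hxy
  · rw [Function.update_of_ne (Ne.symm (hne φ₀ h₀))]
    rcases Finset.mem_insert.mp hφ with rfl | hφ
    · refine ⟨d, hd, ?_⟩
      rw [Function.update_self, ← hfr, hf, smul_smul, sign_sq h.sign, one_smul]
    · refine ⟨n φ, hn' φ hφ, ?_⟩
      rw [Function.update_of_ne (Ne.symm (hne φ hφ))]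
      exact h.rel_base h₀ hφ (hS _ h₀).irr (hn' φ hφ)

/-- Adding a set of characters to a coherent set. -/
theorem extend_many (hK : TIPair L K) {𝒮 : Finset (L → ℂ)} (h : IsCohTI L 𝒮)
    (hS : ∀ φ ∈ 𝒮, Supp K φ) {φ₀ : L → ℂ} (h₀ : φ₀ ∈ 𝒮)
    (hdiv : ∀ φ ∈ 𝒮, degC φ₀ ∣ degC φ) [DecidableEq (L → ℂ)] (𝒯 : Finset (L → ℂ))
    (hT : ∀ χ ∈ 𝒯, Supp K χ ∧ degC φ₀ ∣ degC χ ∧
      2 * degC χ * degC φ₀ < ∑ φ ∈ 𝒮, degC φ ^ 2) :
    IsCohTI L (𝒮 ∪ 𝒯) := by
  induction 𝒯 using Finset.induction_on with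
  | empty => simpa using h
  | @insert χ 𝒯 hχ ih =>
    obtain ⟨ε, μ, hd⟩ := ih fun ψ hψ => hT ψ (Finset.mem_insert_of_mem hψ)
    rw [Finset.union_insert]
    by_cases hmem : χ ∈ 𝒮 ∪ 𝒯
    · rw [Finset.insert_eq_of_mem hmem]; exact ⟨ε, μ, hd⟩
    obtain ⟨h1, h2, h3⟩ := hT χ (Finset.mem_insert_self χ 𝒯)
    refine hd.extend hK ?_ h1 hmem (Finset.mem_union_left _ h₀) ?_ h2
      (h3.trans_le (Finset.sum_le_sum_of_subset Finset.subset_union_left))
    · intro φ hφ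
      rcases Finset.mem_union.mp hφ with hφ | hφ
      · exact hS φ hφ
      · exact (hT φ (Finset.mem_insert_of_mem hφ)).1
    · intro φ hφ
      rcases Finset.mem_union.mp hφ with hφ | hφ
      · exact hdiv φ hφ
      · exact (hT φ (Finset.mem_insert_of_mem hφ)).2.1

end Cfsg.Lib.Characters.Coherence
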