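import Cfsg.Agent.Lib.Characters.Coherence.Single

/-!
# No group of odd order is covered by Frobenius TI kernels
-/

set_option linter.unusedSectionVars false
set_option linter.style.haveILetI false
set_option maxHeartbeats 1600000

open scoped ComplexConjugate

namespace Cfsg.Lib.Characters.Coherence

/-- Summing a class function over a group covered by conjugates of coprime TI subgroups. -/
theorem sum_over_cover {G : Type*} [Group G] [Fintype G] {ι : Type*} [Fintype ι]
    (H : ι → Subgroup G) [∀ i, Fintype (H i)]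
    (hcop : ∀ i j, i ≠ j → Nat.Coprime (Nat.card (H i)) (Nat.card (H j)))
    (hTI : ∀ i, Cfsg.IsTISubset (H i : Set G))
    (hcover : ∀ g : G, g ≠ 1 → ∃ i, ∃ x : G, x * g * x⁻¹ ∈ H i) {F : G → ℂ}
    (hF : IsClassFunction G F) (h1 : F 1 = 0) :
    ∑ g, F g = ∑ i, ((Subgroup.normalizer (H i : Set G)).index : ℂ) * ∑ h : H i, F h := by
  classical
  set N := fun i => Subgroup.normalizer (H i : Set G)
  have hsub : ∀ i, ∑ h : H i, F h = ∑ h : {h : H i // h ≠ 1}, F h.1 := fun i => by
    rw [← Finset.sum_subtype (Finset.univ.filter fun h : H i => h ≠ 1) (by simp) fun h : H i => F h]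
    exact (Finset.sum_subset (Finset.subset_univ _) fun h _ hh => by
      simp only [Finset.mem_filter, Finset.mem_univ, true_and, not_not] at hh
      rw [hh]; simpa using h1).symm
  let f : (Σ i, (G ⧸ N i) × {h : H i // h ≠ 1}) → {g : G // g ≠ 1} := fun t =>
    ⟨t.2.1.out * (t.2.2.1 : G) * t.2.1.out⁻¹, fun he => t.2.2.2 (Subtype.ext (conj_eq_one_iff.mp he))⟩
  have hbij : Function.Bijective f := by
    constructor
    · rintro ⟨i, q, ⟨h, hh⟩⟩ ⟨j, r, ⟨k, hk⟩⟩ he
      have he' : q.out * (h : G) * q.out⁻¹ = r.out * (k : G) * r.out⁻¹ := congrArg Subtype.val he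
      set z := r.out⁻¹ * q.out
      have hz : z * (h : G) * z⁻¹ = k := by
        calc z * (h : G) * z⁻¹ = r.out⁻¹ * (q.out * (h : G) * q.out⁻¹) * r.out := by
              simp only [z]; group
          _ = r.out⁻¹ * (r.out * (k : G) * r.out⁻¹) * r.out := by rw [he']
          _ = k := by group
      have hij : i = j := by
        by_contra hne
        have ho : orderOf (k : G) = orderOf (h : G) := by
          rw [← hz]; exact orderOf_injective (MulAut.conj z).toMonoidHom (MulEquiv.injective _) _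
        have h1 := Nat.eq_one_of_dvd_coprimes (hcop i j hne)
          (Subgroup.orderOf_dvd_natCard _ h.2) (ho ▸ Subgroup.orderOf_dvd_natCard _ k.2)
        exact hh (Subtype.ext (orderOf_eq_one_iff.mp h1))
      subst hij
      have hzN : z ∈ N i := by
        by_contra hzn
        exact hh (Subtype.ext (hTI i z hzn h h.2 (hz ▸ k.2)))
      have hqr : r = q := by
        rw [← QuotientGroup.out_eq' r, ← QuotientGroup.out_eq' q]
        exact QuotientGroup.eq.mpr hzN
      subst hqr
      have : (h : G) = k := mul_left_cancel (mul_right_cancel he')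
      obtain rfl : h = k := Subtype.ext this
      rfl
    · rintro ⟨g, hg⟩
      obtain ⟨i, x, hx⟩ := hcover g hg
      set q : G ⧸ N i := QuotientGroup.mk x⁻¹
      obtain ⟨n, hn⟩ := QuotientGroup.mk_out_eq_mul (N i) x⁻¹
      have hm : q.out⁻¹ * g * q.out ∈ H i := by
        have h := (Subgroup.mem_normalizer_iff.mp (Subgroup.inv_mem _ n.2) _).mp hx
        rw [show q.out = x⁻¹ * n from hn]
        simpa [mul_assoc] using h
      refine ⟨⟨i, q, ⟨⟨_, hm⟩, fun he => hg ?_⟩⟩, Subtype.ext ?_⟩
      · have h1' : q.out⁻¹ * g * q.out = 1 := congrArg Subtype.val he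
        have : q.out⁻¹ * g * (q.out⁻¹)⁻¹ = 1 := by rw [inv_inv]; exact h1'
        exact conj_eq_one_iff.mp this
      · show q.out * (q.out⁻¹ * g * q.out) * q.out⁻¹ = g
        group
  calc ∑ g, F g = ∑ g : {g : G // g ≠ 1}, F g.1 := by
        rw [← Finset.sum_subtype (Finset.univ.filter fun g : G => g ≠ 1) (by simp) fun g : G => F g]
        exact (Finset.sum_subset (Finset.subset_univ _) fun g _ hg => by
          simp only [Finset.mem_filter, Finset.mem_univ, true_and, not_not] at hg
          rw [hg, h1]).symm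
    _ = ∑ t, F (f t).1 := (Fintype.sum_bijective f hbij _ _ fun _ => rfl).symm
    _ = ∑ i, ((N i).index : ℂ) * ∑ h : H i, F h := by
        rw [Fintype.sum_sigma]
        refine Finset.sum_congr rfl fun i _ => ?_
        rw [Fintype.sum_prod_type, hsub, Finset.sum_congr rfl fun q _ =>
          Finset.sum_congr rfl fun h _ => show F (f ⟨i, q, h⟩).1 = F h.1 from hF _ _,
          Finset.sum_const, nsmul_eq_mul, Finset.card_univ, ← Nat.card_eq_fintype_card,
          Subgroup.index]

variable {G : Type*} [Group G] [Fintype G] {ι : Type*} [Fintype ι]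

/-- A group of odd order has no cover by two or more families of Frobenius TI kernels. -/
theorem no_family (hodd : Odd (Nat.card G)) (hι : 2 ≤ Fintype.card ι) (L H : ι → Subgroup G)
    [∀ i, Fintype (L i)] [∀ i, Fintype (H i)]
    (hHL : ∀ i, H i ≤ L i) [∀ i, ((H i).subgroupOf (L i)).Normal]
    (hK : ∀ i, OddFrobTI (L i) ((H i).subgroupOf (L i)))
    (hcop : ∀ i j, i ≠ j → Nat.Coprime (Nat.card (H i)) (Nat.card (H j)))
    (hTI : ∀ i, Cfsg.IsTISubset (H i : Set G))
    (hN : ∀ i, Subgroup.normalizer (H i : Set G) = L i)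
    (hcover : ∀ g : G, g ≠ 1 → ∃ i, ∃ x : G, x * g * x⁻¹ ∈ H i) : False := by
  classical
  set K : ∀ i, Subgroup (L i) := fun i => (H i).subgroupOf (L i) with hKdef
  set S : ∀ i, Finset ((L i) → ℂ) := fun i => exOn (K i) ⊥ with hSdef
  choose ε μ hc using fun i => (hK i).coherent
  choose φ₀ h₀ hd₀ φ₁ h₁ hne₁ using fun i => (hK i).exists_linear
  choose a ha using fun i => (hK i).exists_shift (hc i)
  set e : ι → ℕ := fun i => (K i).index with hedef
  set n : ι → ℕ := fun i => ∑ χ ∈ S i, dd (K i) χ ^ 2 with hndef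
  have hcardK : ∀ i, Nat.card (K i) = Nat.card (H i) := fun i =>
    Nat.card_congr (Subgroup.subgroupOfEquivOfLe (hHL i)).toEquiv
  have hh : ∀ i, e i * n i + 1 = Nat.card (H i) := fun i => by
    rw [← hcardK]; exact (hK i).sum_dd_sq
  have he3 : ∀ i, 3 ≤ e i := fun i => by
    have h1 := (hK i).one_lt_index
    obtain ⟨r, hr⟩ := (hK i).odd_index
    simp only [hedef, hKdef]
    omega
  have hn_even : ∀ i, Even (n i) := fun i => by
    have h1 : Odd (e i * n i + 1) := by rw [hh, ← hcardK]; exact (hK i).odd_card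
    have h2 : Even (e i * n i) := by
      rcases Nat.even_or_odd (e i * n i) with h | h
      · exact h
      · exact absurd h1 (Nat.not_odd_iff_even.mpr h.add_one)
    exact (Nat.even_mul.mp h2).resolve_left (Nat.not_even_iff_odd.mpr (hK i).odd_index)
  have hn2 : ∀ i, 2 ≤ n i := fun i => by
    obtain ⟨r, hr⟩ := hn_even i
    have : n i ≠ 0 := fun h0 => by
      simp only [hndef, Finset.sum_eq_zero_iff] at h0
      exact absurd (h0 _ (h₀ i)) (by rw [hd₀ i]; norm_num)
    omega
  -- an element of each kernel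
  have hex : ∀ i, ∃ x : L i, x ∈ K i ∧ x ≠ 1 := fun i => by
    obtain ⟨x, hx, hx1⟩ := (K i).bot_or_exists_ne_one.resolve_left (hK i).ne_bot
    exact ⟨x, hx, hx1⟩
  choose el hel hel1 using hex
  have hmemH : ∀ i, ((el i : L i) : G) ∈ H i := fun i => hel i
  have hnconj : ∀ i j, i ≠ j → ∀ x : G, x ∈ H i → x ≠ 1 → ∀ y : G, y ∈ H j → ¬ IsConj x y := by
    intro i j hij x hx hx1 y hy hconj
    obtain ⟨z, hz⟩ := isConj_iff.mp hconj
    have ho : orderOf y = orderOf x := by
      rw [← hz]; exact orderOf_injective (MulAut.conj z).toMonoidHom (MulEquiv.injective _) _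
    exact hx1 (orderOf_eq_one_iff.mp (Nat.eq_one_of_dvd_coprimes (hcop i j hij)
      (Subgroup.orderOf_dvd_natCard _ hx) (ho ▸ Subgroup.orderOf_dvd_natCard _ hy)))
  -- induced functions from different kernels
  have hindzero : ∀ i j, i ≠ j → ∀ f : L i → ℂ, (∀ x, x ∉ K i → f x = 0) → f 1 = 0 →
      ∀ y : G, y ∈ H j → indFun (L i) f y = 0 := by
    intro i j hij f hf hf1 y hy
    by_cases hy1 : y = 1
    · rw [hy1, indFun_one_apply, hf1, mul_zero]
    · exact indFun_eq_zero_of_not_conj hf fun k hk hconj =>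
        hnconj j i (Ne.symm hij) y hy hy1 (k : G) hk hconj.symm
  have hcombprop : ∀ i, ∀ φ ∈ S i, ∀ ψ ∈ S i,
      (∀ x, x ∉ K i → comb φ ψ x = 0) ∧ comb φ ψ 1 = 0 := fun i φ hφ ψ hψ =>
    ⟨fun x hx => by simp [comb, ((hK i).supp hφ).van x hx, ((hK i).supp hψ).van x hx],
      by simp [comb, degC_spec (mem_exOn.mp hφ).1.isCharacter,
        degC_spec (mem_exOn.mp hψ).1.isCharacter, mul_comm]⟩
  have hdisj : ∀ i j, i ≠ j → ∀ φ ∈ S i, ∀ χ ∈ S j, μ i φ ≠ μ j χ := by
    intro i j hij φ hφ χ hχ
    obtain ⟨φ', hφ', hφne⟩ := (hK i).exists_ne (φ := φ)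
    obtain ⟨χ', hχ', hχne⟩ := (hK j).exists_ne (φ := χ)
    refine ne_of_comb_orth ((hc i).irr φ hφ) ((hc i).irr φ' hφ') ((hc j).irr χ hχ)
      ((hc j).irr χ' hχ') (fun h => hφne ((hc i).inj hφ' hφ h.symm))
      (fun h => hχne ((hc j).inj hχ' hχ h.symm)) (p := degC φ) (p' := degC φ') (q := degC χ)
      (q' := degC χ') (degC_pos (mem_exOn.mp hφ').1) (degC_pos (mem_exOn.mp hχ').1) ?_
    have hz : classInner (indFun (L i) (comb φ φ')) (indFun (L j) (comb χ χ')) = 0 := by
      obtain ⟨hv, hv1⟩ := hcombprop i φ hφ φ' hφ'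
      obtain ⟨hw, hw1⟩ := hcombprop j χ hχ χ' hχ'
      rw [classInner]
      refine mul_eq_zero_of_right _ (Finset.sum_eq_zero fun y _ => ?_)
      by_cases hy1 : y = 1
      · rw [hy1, indFun_one_apply, hv1, mul_zero, zero_mul]
      obtain ⟨k, x, hx⟩ := hcover y hy1
      have hconjfun : ∀ (m : ι) (f : L m → ℂ), indFun (L m) f y = indFun (L m) f (x * y * x⁻¹) :=
        fun m f => (isClassFunction_indFun (L m) f y x).symm
      by_cases hki : k = i
      · rw [hconjfun j, hindzero j k (by rw [hki]; exact Ne.symm hij) _ hw hw1 _ hx, map_zero,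
          mul_zero]
      · rw [hconjfun i, hindzero i k (Ne.symm hki) _ hv hv1 _ hx, zero_mul]
    rw [(hc i).rel φ hφ φ' hφ', (hc j).rel χ hχ χ' hχ', classInner_smul_left,
      classInner_smul_right, conj_intCast'] at hz
    have hsi : (ε i : ℂ) ≠ 0 := by rcases (hc i).sign with h | h <;> rw [h] <;> norm_num
    have hsj : (ε j : ℂ) ≠ 0 := by rcases (hc j).sign with h | h <;> rw [h] <;> norm_num
    simpa [hsi, hsj] using hz
  -- constants
  have hconst : ∀ i j, i ≠ j → ∃ c : ℤ, ∀ φ ∈ S i, ∀ y ∈ K j, y ≠ 1 →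
      μ i φ ((y : L j) : G) = (dd (K i) φ : ℂ) * c := by
    intro i j hij
    obtain ⟨c, hc'⟩ := (hK j).exists_const (hc j) ((hc i).irr _ (h₀ i))
      fun χ hχ => (hdisj i j hij _ (h₀ i) χ hχ).symm
    refine ⟨c, fun φ hφ y hy hy1 => ?_⟩
    have hn : degC φ = dd (K i) φ * degC (φ₀ i) := by
      rw [((hK i).degC_eq hφ).1, ((hK i).degC_eq (h₀ i)).1, hd₀ i, mul_one, mul_comm]
    have e1 := congrFun ((hc i).rel_base (h₀ i) hφ (mem_exOn.mp (h₀ i)).1 hn) ((y : L j) : G)
    rw [hindzero i j hij _ (base_van ((hK i).supp (h₀ i)) ((hK i).supp hφ))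
      (base_apply_one (mem_exOn.mp (h₀ i)).1.isCharacter (mem_exOn.mp hφ).1.isCharacter hn)
      ((y : L j) : G) hy] at e1
    have hs : (ε i : ℂ) ≠ 0 := by rcases (hc i).sign with h | h <;> rw [h] <;> norm_num
    simp only [Pi.smul_apply, Pi.sub_apply, smul_eq_mul, zero_eq_mul, hs, false_or, hc' y hy hy1] at e1
    exact sub_eq_zero.mp e1
  choose c hcval using hconst
  -- the images and the remaining characters
  set img : ι → Finset (IrrCharacter G) :=
    fun i => Finset.univ.filter fun ψ => ∃ φ ∈ S i, μ i φ = (ψ : G → ℂ) with himg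
  have himg_sum : ∀ i, ∀ F : (G → ℂ) → ℂ,
      ∑ ψ ∈ img i, F (ψ : G → ℂ) = ∑ φ ∈ S i, F (μ i φ) := by
    intro i F
    symm
    refine Finset.sum_bij (fun φ hφ => (⟨μ i φ, (hc i).irr φ hφ⟩ : IrrCharacter G))
      (fun φ hφ => by simp only [himg, Finset.mem_filter, Finset.mem_univ, true_and]; exact ⟨φ, hφ, rfl⟩)
      (fun φ hφ χ hχ h => (hc i).inj hφ hχ (congrArg Subtype.val h))
      (fun ψ hψ => by
        simp only [himg, Finset.mem_filter, Finset.mem_univ, true_and] at hψ
        obtain ⟨φ, hφ, h⟩ := hψ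
        exact ⟨φ, hφ, Subtype.ext h⟩) (fun φ hφ => rfl)
  have himg_disj : ∀ i j, i ≠ j → Disjoint (img i) (img j) := by
    intro i j hij
    refine Finset.disjoint_left.mpr fun ψ hψ hψ' => ?_
    simp only [himg, Finset.mem_filter, Finset.mem_univ, true_and] at hψ hψ'
    obtain ⟨φ, hφ, h⟩ := hψ
    obtain ⟨χ, hχ, h'⟩ := hψ'
    exact hdisj i j hij φ hφ χ hχ (h.trans h'.symm)
  have hnotimg : ∀ i, ∀ ψ : IrrCharacter G, ψ ∉ img i →
      ∃ t : ℤ, ∀ y ∈ K i, y ≠ 1 → (ψ : G → ℂ) ((y : L i) : G) = t := by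
    intro i ψ hψ
    refine (hK i).exists_const (hc i) ψ.2 fun φ hφ h => hψ ?_
    simp only [himg, Finset.mem_filter, Finset.mem_univ, true_and]
    exact ⟨φ, hφ, h⟩
  let one : IrrCharacter G := ⟨fun _ => 1, isIrrCharacter_one⟩
  have hone : ∀ i, one ∉ img i := by
    intro i h
    simp only [himg, Finset.mem_filter, Finset.mem_univ, true_and] at h
    obtain ⟨φ, hφ, hφ'⟩ := h
    exact (hK i).not_const (hc i) hφ (t := 1) fun y _ _ => congrFun hφ' _
  let bar : IrrCharacter G → IrrCharacter G := fun ψ => ⟨_, isIrrCharacter_conj ψ.2⟩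
  have hbar : ∀ i, ∀ ψ : IrrCharacter G, ψ ∉ img i → bar ψ ∉ img i := by
    intro i ψ hψ h
    obtain ⟨t, ht⟩ := hnotimg i ψ hψ
    simp only [himg, Finset.mem_filter, Finset.mem_univ, true_and] at h
    obtain ⟨φ, hφ, hφ'⟩ := h
    exact (hK i).not_const (hc i) hφ (t := (t : ℂ)) fun y hy hy1 => by
      rw [congrFun hφ' _]; simp [bar, ht y hy hy1]
  -- parity
  have hparity : ∀ i j (hij : i ≠ j), c i j hij = 0 → c j i (Ne.symm hij) ≠ 0 := by
    intro i j hij hc0 hc1
    have hsum := column_orthogonality (G := G) ((el i : L i) : G) ((el j : L j) : G)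
    rw [if_neg (hnconj i j hij _ (hmemH i) (fun h => hel1 i (Subtype.ext h)) _ (hmemH j))] at hsum
    obtain ⟨P, hP⟩ : ∃ P : IrrCharacter G → ℂ, P = fun ψ : IrrCharacter G =>
        (ψ : G → ℂ) ((el i : L i) : G) * conj ((ψ : G → ℂ) ((el j : L j) : G)) := ⟨_, rfl⟩
    set R := (Finset.univ \ (img i ∪ img j)).erase one with hR
    have hmem1 : one ∈ Finset.univ \ (img i ∪ img j) := by
      simp [hone i, hone j]
    rw [← Finset.sum_sdiff (Finset.subset_univ (img i ∪ img j)),
      Finset.sum_union (himg_disj i j hij), ← Finset.add_sum_erase _ _ hmem1, ← hR] at hsum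
    have hI : ∑ ψ ∈ img i, P ψ = 0 := by
      simp only [hP]
      rw [himg_sum i fun ψ => ψ ((el i : L i) : G) * conj (ψ ((el j : L j) : G))]
      refine Finset.sum_eq_zero fun φ hφ => ?_
      rw [hcval i j hij φ hφ (el j) (hel j) (hel1 j), hc0]
      simp
    have hJ : ∑ ψ ∈ img j, P ψ = 0 := by
      simp only [hP]
      rw [himg_sum j fun ψ => ψ ((el i : L i) : G) * conj (ψ ((el j : L j) : G))]
      refine Finset.sum_eq_zero fun φ hφ => ?_
      rw [hcval j i (Ne.symm hij) φ hφ (el i) (hel i) (hel1 i), hc1]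
      simp
    simp only [hP] at hI hJ
    rw [hI, hJ, show (one : G → ℂ) ((el i : L i) : G) * conj ((one : G → ℂ) ((el j : L j) : G)) = 1 by
      simp [one]] at hsum
    have hRval : ∀ ψ ∈ R, ∃ t : ℤ, (ψ : G → ℂ) ((el i : L i) : G) *
        conj ((ψ : G → ℂ) ((el j : L j) : G)) = t := by
      intro ψ hψ
      simp only [hR, Finset.mem_erase, Finset.mem_sdiff, Finset.mem_univ, true_and,
        Finset.mem_union, not_or] at hψ
      obtain ⟨t, ht⟩ := hnotimg i ψ hψ.2.1
      obtain ⟨u, hu⟩ := hnotimg j ψ hψ.2.2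
      exact ⟨t * u, by rw [ht _ (hel i) (hel1 i), hu _ (hel j) (hel1 j), map_intCast, Int.cast_mul]⟩
    choose! t ht using hRval
    rw [Finset.sum_congr rfl ht, ← Int.cast_sum] at hsum
    have hz : (∑ ψ ∈ R, t ψ) + 1 = 0 := by
      have h5 : (((∑ ψ ∈ R, t ψ) + 1 : ℤ) : ℂ) = 0 := by
        push_cast; rw [← hsum]; push_cast; ring
      exact_mod_cast h5
    -- pairing conjugate characters
    have hbarR : ∀ ψ ∈ R, bar ψ ∈ R := by
      intro ψ hψ
      simp only [hR, Finset.mem_erase, Finset.mem_sdiff, Finset.mem_univ, true_and,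
        Finset.mem_union, not_or] at hψ ⊢
      refine ⟨fun h => hψ.1 (Subtype.ext (funext fun g => ?_)), hbar i ψ hψ.2.1, hbar j ψ hψ.2.2⟩
      have h2 : conj ((ψ : G → ℂ) g) = 1 := congrFun (congrArg Subtype.val h) g
      show (ψ : G → ℂ) g = 1
      rw [← Complex.conj_conj ((ψ : G → ℂ) g), h2, map_one]
    have hbart : ∀ ψ ∈ R, t (bar ψ) = t ψ := by
      intro ψ hψ
      have h2 := ht _ (hbarR ψ hψ)
      simp only [bar, ← map_mul, ht ψ hψ, map_intCast] at h2
      exact_mod_cast h2.symm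
    have heven : ((∑ ψ ∈ R, t ψ : ℤ) : ZMod 2) = 0 := by
      rw [Int.cast_sum]
      refine Finset.sum_involution (fun ψ _ => bar ψ) (fun ψ hψ => ?_) (fun ψ hψ _ h => ?_)
        hbarR (fun ψ _ => ?_)
      · rw [hbart ψ hψ]; exact CharTwo.add_self_eq_zero _
      · simp only [hR, Finset.mem_erase] at hψ
        refine hψ.1 (Subtype.ext (eq_one_of_real hodd ψ.2 fun g => ?_))
        exact Complex.conj_eq_iff_im.mp (congrFun (congrArg Subtype.val h) g)
      · exact Subtype.ext (funext fun g => Complex.conj_conj _)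
    rw [show (∑ ψ ∈ R, t ψ) = -1 by omega] at heven
    exact absurd heven (by decide)
  -- column bound
  have hcolumn : ∀ i, ∑ j ∈ Finset.univ.filter
      (fun j => ∃ h : i ≠ j, c i j h = 0), n j ≤ e i - 1 := by
    intro i
    set x : G := ((el i : L i) : G)
    set Z := Finset.univ.filter (fun j => ∃ h : i ≠ j, c i j h = 0)
    have hsum := column_orthogonality (G := G) x x
    rw [if_pos (IsConj.refl x)] at hsum
    have hcent : Nat.card (Subgroup.centralizer ({x} : Set G)) =
        Nat.card (Subgroup.centralizer ({el i} : Set (L i))) := by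
      symm
      refine Nat.card_congr (Equiv.ofBijective (fun z => ⟨((z.1 : L i) : G), ?_⟩) ⟨?_, ?_⟩)
      · exact Subgroup.mem_centralizer_singleton_iff.mpr
          (congrArg Subtype.val (Subgroup.mem_centralizer_singleton_iff.mp z.2))
      · intro u v huv
        exact Subtype.ext (Subtype.ext (congrArg (fun w : Subgroup.centralizer ({x} : Set G) => (w : G)) huv))
      · rintro ⟨w, hw⟩
        have hw' := Subgroup.mem_centralizer_singleton_iff.mp hw
        have hwL : w ∈ L i := by
          by_contra h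
          exact hel1 i (Subtype.ext ((hK i).ti w h (el i) (hel i) (el i) (hel i)
            (by rw [hw', mul_inv_cancel_right])))
        exact ⟨⟨⟨w, hwL⟩, Subgroup.mem_centralizer_singleton_iff.mpr (Subtype.ext hw')⟩, rfl⟩
    rw [hcent] at hsum
    set C := Nat.card (Subgroup.centralizer ({el i} : Set (L i)))
    set sq : IrrCharacter G → ℝ := fun ψ => Complex.normSq ((ψ : G → ℂ) x) with hsq
    have hsum' : ∑ ψ, sq ψ = (C : ℝ) := by
      have : ((∑ ψ, sq ψ : ℝ) : ℂ) = ((C : ℝ) : ℂ) := by
        rw [Complex.ofReal_sum, Complex.ofReal_natCast, ← hsum]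
        exact Finset.sum_congr rfl fun ψ _ => (Complex.mul_conj _).symm
      exact_mod_cast this
    set U := insert one (img i ∪ Z.biUnion img)
    have hU : ∑ ψ ∈ U, sq ψ ≤ (C : ℝ) :=
      hsum' ▸ Finset.sum_le_sum_of_subset_of_nonneg (Finset.subset_univ _)
        fun _ _ _ => Complex.normSq_nonneg _
    have hd1 : Disjoint (img i) (Z.biUnion img) := by
      refine (Finset.disjoint_biUnion_right _ _ _).mpr fun j hj => ?_
      obtain ⟨hij, -⟩ := (Finset.mem_filter.mp hj).2
      exact himg_disj i j hij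
    have hone' : one ∉ img i ∪ Z.biUnion img := by
      simp only [Finset.mem_union, Finset.mem_biUnion, not_or, not_exists, not_and]
      exact ⟨hone i, fun j _ => hone j⟩
    rw [Finset.sum_insert hone', Finset.sum_union hd1,
      Finset.sum_biUnion fun j _ k _ hjk => himg_disj j k hjk] at hU
    have hown : (C : ℝ) - e i ≤ ∑ ψ ∈ img i, sq ψ := by
      have h5 : ((∑ ψ ∈ img i, sq ψ : ℝ) : ℂ) =
          (C : ℂ) - (e i : ℂ) + (a i : ℂ) * ((a i : ℂ) * (n i : ℂ) - 2 * (ε i : ℂ)) := by
        rw [Complex.ofReal_sum, Finset.sum_congr rfl fun ψ _ => show ((sq ψ : ℝ) : ℂ) =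
          (ψ : G → ℂ) x * conj ((ψ : G → ℂ) x) from (Complex.mul_conj _).symm,
          himg_sum i fun ψ => ψ x * conj (ψ x)]
        have e5 : ∀ φ ∈ S i, μ i φ x * conj (μ i φ x) = φ (el i) * conj (φ (el i)) +
            ((ε i : ℂ) * a i) * ((dd (K i) φ : ℂ) * φ (el i) + conj ((dd (K i) φ : ℂ) * φ (el i))) +
            (a i : ℂ) ^ 2 * (dd (K i) φ : ℂ) ^ 2 := by
          intro φ hφ
          rw [ha i φ hφ _ (hel i) (hel1 i)]
          simp only [map_add, map_mul, map_intCast, map_natCast]
          linear_combination (φ (el i) * conj (φ (el i))) * sign_sq (hc i).sign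
        rw [Finset.sum_congr rfl e5, Finset.sum_add_distrib, Finset.sum_add_distrib,
          ← Finset.mul_sum, ← Finset.mul_sum, Finset.sum_add_distrib, ← map_sum,
          (hK i).sum_norm_sq (hel i), (hK i).sum_dd_mul (hel i) (hel1 i), map_neg, map_one]
        simp only [hndef, hedef, Nat.cast_sum, Nat.cast_pow]
        ring
      have h6 : ∑ ψ ∈ img i, sq ψ =
          (C : ℝ) - e i + (a i : ℝ) * ((a i : ℝ) * n i - 2 * (ε i : ℝ)) := by
        exact_mod_cast h5
      rw [h6]
      have h7 : (0 : ℤ) ≤ a i * (a i * n i - 2 * ε i) := by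
        have hn' : (2 : ℤ) ≤ n i := by exact_mod_cast hn2 i
        rcases (hc i).sign with h | h <;> rw [h] <;>
          rcases lt_trichotomy (a i) 0 with ha' | ha' | ha'
        all_goals first
          | (rw [ha']; norm_num)
          | nlinarith [mul_le_mul_of_nonneg_left hn' (sq_nonneg (a i))]
      have h8 : (0 : ℝ) ≤ (a i : ℝ) * ((a i : ℝ) * n i - 2 * (ε i : ℝ)) := by exact_mod_cast h7
      linarith
    have hother : ∀ j ∈ Z, (n j : ℝ) ≤ ∑ ψ ∈ img j, sq ψ := by
      intro j hj
      obtain ⟨hij, hc0⟩ := (Finset.mem_filter.mp hj).2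
      have hc1 := hparity i j hij hc0
      simp only [hsq]
      have h6 : ((∑ ψ ∈ img j, Complex.normSq ((ψ : G → ℂ) x) : ℝ) : ℂ) =
          ((((c j i (Ne.symm hij)) ^ 2 : ℤ) : ℝ) * (n j : ℝ) : ℝ) := by
        rw [Complex.ofReal_sum, Finset.sum_congr rfl fun (ψ : IrrCharacter G) _ => show
          ((Complex.normSq ((ψ : G → ℂ) x) : ℝ) : ℂ) = (ψ : G → ℂ) x * conj ((ψ : G → ℂ) x) from
            (Complex.mul_conj _).symm, himg_sum j fun ψ => ψ x * conj (ψ x),
          Finset.sum_congr rfl fun φ hφ => show μ j φ x * conj (μ j φ x) =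
            ((c j i (Ne.symm hij) : ℂ)) ^ 2 * (dd (K j) φ : ℂ) ^ 2 by
              rw [hcval j i (Ne.symm hij) φ hφ (el i) (hel i) (hel1 i)]
              simp only [map_mul, map_natCast, map_intCast]; ring,
          ← Finset.mul_sum]
        simp only [hndef]
        push_cast
        ring
      rw [Complex.ofReal_inj.mp h6]
      have h7 : (1 : ℤ) ≤ (c j i (Ne.symm hij)) ^ 2 := by
        have := sq_pos_of_ne_zero hc1
        omega
      have h8 : (1 : ℝ) ≤ (((c j i (Ne.symm hij)) ^ 2 : ℤ) : ℝ) := by exact_mod_cast h7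
      exact le_mul_of_one_le_left (Nat.cast_nonneg _) h8
    have hone1 : sq one = 1 := by simp [hsq, one]
    rw [hone1] at hU
    have h9 : ((∑ j ∈ Z, n j : ℕ) : ℝ) + 1 ≤ (e i : ℝ) := by
      have := Finset.sum_le_sum hother
      push_cast
      linarith
    have h10 : (∑ j ∈ Z, n j) + 1 ≤ e i := by exact_mod_cast h9
    omega
  -- norm bound
  obtain ⟨i, -, hmin⟩ := Finset.exists_min_image Finset.univ e
    (Finset.univ_nonempty_iff.mpr (Fintype.card_pos_iff.mp (by omega)))
  set Z := Finset.univ.filter (fun j => ∃ h : i ≠ j, c i j h = 0) with hZ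
  have hkey : (1 : ℝ) ≤ (e i + n i : ℝ) / Nat.card (H i) +
      ∑ j ∈ Z, (n j : ℝ) / Nat.card (H j) := by
    set ψ := μ i (φ₀ i) with hψ
    have hψirr : IsIrrCharacter G ψ := (hc i).irr _ (h₀ i)
    set F : G → ℂ := fun g => if g = 1 then 0 else ψ g * conj (ψ g) with hF
    have hFclass : IsClassFunction G F := fun g h => by
      simp only [hF, conj_eq_one_iff]
      rw [hψirr.isClassFunction g h]
    have hnorm : ∑ g : G, ψ g * conj (ψ g) = (Nat.card G : ℂ) := by
      have := classInner_irr_self hψirr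
      rwa [classInner, inv_mul_eq_one₀ (Nat.cast_ne_zero.mpr Nat.card_pos.ne'), eq_comm] at this
    obtain ⟨D, hDpos, hD⟩ := hψirr.exists_degree_pos
    have hsumF : ∑ g, F g = (Nat.card G : ℂ) - (D : ℂ) ^ 2 := by
      rw [← hnorm, ← Finset.add_sum_erase _ _ (Finset.mem_univ (1 : G)),
        ← Finset.add_sum_erase Finset.univ (fun g => ψ g * conj (ψ g)) (Finset.mem_univ (1 : G))]
      simp only [hF, if_true, hD, map_natCast]
      rw [Finset.sum_congr rfl fun g hg => if_neg (Finset.ne_of_mem_erase hg)]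
      ring
    rw [sum_over_cover H hcop hTI hcover hFclass (by simp [hF])] at hsumF
    -- own term
    have hown : ∑ h : H i, F h = ((e i : ℂ) * Nat.card (H i) - (e i : ℂ) ^ 2) +
        (e i : ℂ) * (a i : ℂ) * ((a i : ℂ) * n i - 2 * ε i) := by
      haveI : Fintype (K i) := Fintype.ofFinite _
      rw [← (Subgroup.subgroupOfEquivOfLe (hHL i)).toEquiv.sum_comp]
      have hφ := (mem_exOn.mp (h₀ i)).1
      have hdeg : (φ₀ i) 1 = (e i : ℂ) := by
        rw [degC_spec hφ.isCharacter, ((hK i).degC_eq (h₀ i)).1, hd₀ i, mul_one]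
      have hterm : ∀ y : K i, F ((Subgroup.subgroupOfEquivOfLe (hHL i)).toEquiv y) =
          (φ₀ i y * conj (φ₀ i y) + ((ε i : ℂ) * a i) * (φ₀ i y + conj (φ₀ i y)) + (a i : ℂ) ^ 2) -
          (if y = 1 then (e i : ℂ) ^ 2 + ((ε i : ℂ) * a i) * (2 * e i) + (a i : ℂ) ^ 2 else 0) := by
        intro y
        show F (((y : L i)) : G) = _
        by_cases hy : y = 1
        · subst hy
          simp only [OneMemClass.coe_one, hF, if_true, hdeg, map_natCast]
          ring
        · have hy1 : (y : L i) ≠ 1 := fun h => hy (Subtype.ext h)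
          rw [if_neg hy, sub_zero]
          simp only [hF]
          rw [if_neg (fun h : ((y : L i) : G) = 1 => hy1 (Subtype.ext h)), hψ, ha i _ (h₀ i) _ y.2 hy1, hd₀ i]
          simp only [map_add, map_mul, map_intCast, Nat.cast_one, one_mul]
          linear_combination (φ₀ i y * conj (φ₀ i y)) * sign_sq (hc i).sign
      rw [Finset.sum_congr rfl fun y _ => hterm y, Finset.sum_sub_distrib, Finset.sum_ite_eq',
        if_pos (Finset.mem_univ _), Finset.sum_add_distrib, Finset.sum_add_distrib, ← Finset.mul_sum,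
        Finset.sum_add_distrib, ← map_sum, Finset.sum_const, nsmul_eq_mul, Finset.card_univ,
        ← Nat.card_eq_fintype_card, hcardK]
      have hres : ∀ F' : L i → ℂ, (∀ x, x ∉ K i → F' x = 0) → ∑ y : K i, F' y = ∑ x, F' x :=
        fun F' hF' => by
        rw [← Finset.sum_subtype (Finset.univ.filter fun x => x ∈ K i) (by simp) F']
        exact Finset.sum_subset (Finset.subset_univ _) fun x _ hx => hF' x (by simpa using hx)
      have hvan := ((hK i).supp (h₀ i)).van
      have hs1 : ∑ y : K i, φ₀ i y = 0 := by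
        rw [hres _ hvan]
        have h1 := classInner_irr_ne hφ (isIrrCharacter_one (G := L i)) fun h =>
          (mem_exOn.mp (h₀ i)).2.1 fun k _ => by rw [h]
        simpa [classInner] using h1
      have hs2 : ∑ y : K i, φ₀ i y * conj (φ₀ i y) = (e i : ℂ) * Nat.card (H i) := by
        rw [hres (fun x => φ₀ i x * conj (φ₀ i x)) fun x hx => by rw [hvan x hx, zero_mul]]
        have h1 := classInner_irr_self hφ
        rw [classInner, inv_mul_eq_one₀ (Nat.cast_ne_zero.mpr Nat.card_pos.ne')] at h1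
        rw [← h1, ← Subgroup.card_mul_index (K i), hcardK, Nat.cast_mul]
        ring
      rw [hs1, hs2, map_zero]
      have hhc : (Nat.card (H i) : ℂ) = (e i : ℂ) * n i + 1 := by exact_mod_cast (hh i).symm
      linear_combination ((a i : ℂ) ^ 2) * hhc
    have hindex : ∀ j, ((Subgroup.normalizer (H j : Set G)).index : ℝ) *
        ((e j : ℝ) * Nat.card (H j)) = Nat.card G := by
      intro j
      rw [hN j, ← Nat.cast_mul, ← Nat.cast_mul, ← hcardK, mul_comm (e j),
        Subgroup.card_mul_index, Subgroup.index_mul_card]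
    -- lower bounds for the terms
    have hreal : ∀ j, ∃ r : ℝ, ((r : ℂ) = ∑ h : H j, F h) ∧ 0 ≤ r := fun j => by
      refine ⟨∑ h : H j, if (h : G) = 1 then 0 else Complex.normSq (ψ h), ?_,
        Finset.sum_nonneg fun h _ => ?_⟩
      · rw [Complex.ofReal_sum]
        refine Finset.sum_congr rfl fun h _ => ?_
        simp only [hF]
        split_ifs
        · exact Complex.ofReal_zero
        · exact (Complex.mul_conj _).symm
      · split_ifs
        · exact le_rfl
        · exact Complex.normSq_nonneg _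
    choose r hr hr0 using hreal
    have hsumr : ∑ j, ((Subgroup.normalizer (H j : Set G)).index : ℝ) * r j =
        (Nat.card G : ℝ) - (D : ℝ) ^ 2 := by
      have h5 : ((∑ j, ((Subgroup.normalizer (H j : Set G)).index : ℝ) * r j : ℝ) : ℂ) =
          (((Nat.card G : ℝ) - (D : ℝ) ^ 2 : ℝ) : ℂ) := by
        push_cast [hr]; exact hsumF
      exact_mod_cast h5
    have hown' : (e i : ℝ) * Nat.card (H i) - (e i : ℝ) ^ 2 ≤ r i := by
      have h5 : r i = ((e i : ℝ) * Nat.card (H i) - (e i : ℝ) ^ 2) +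
          (e i : ℝ) * (a i : ℝ) * ((a i : ℝ) * n i - 2 * ε i) := by
        have h6 := (hr i).trans hown
        exact_mod_cast h6
      have h7 : (0 : ℤ) ≤ a i * (a i * n i - 2 * ε i) := by
        have hn' : (2 : ℤ) ≤ n i := by exact_mod_cast hn2 i
        rcases (hc i).sign with h | h <;> rw [h] <;>
          rcases lt_trichotomy (a i) 0 with ha' | ha' | ha'
        all_goals first
          | (rw [ha']; norm_num)
          | nlinarith [mul_le_mul_of_nonneg_left hn' (sq_nonneg (a i))]
      have h8 : (0 : ℝ) ≤ (e i : ℝ) * ((a i : ℝ) * ((a i : ℝ) * n i - 2 * (ε i : ℝ))) :=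
        mul_nonneg (Nat.cast_nonneg _) (by exact_mod_cast h7)
      linarith
    have hother' : ∀ j, j ∉ Z → j ≠ i → (e j : ℝ) * n j ≤ r j := by
      intro j hj hji
      have hij : i ≠ j := Ne.symm hji
      have hc0 : c i j hij ≠ 0 := fun h => hj (Finset.mem_filter.mpr ⟨Finset.mem_univ _, hij, h⟩)
      have h5 : r j = ((c i j hij) ^ 2 : ℤ) * ((e j : ℝ) * n j) := by
        have h6 : (r j : ℂ) = (((c i j hij) ^ 2 : ℤ) : ℂ) * ((e j : ℂ) * n j) := by
          rw [hr j, ← Finset.add_sum_erase _ _ (Finset.mem_univ (1 : H j)),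
            Finset.sum_congr rfl fun (h : H j) (hh : h ∈ (Finset.univ : Finset (H j)).erase 1) => show F (h : G) = ((c i j hij : ℂ)) ^ 2 by
              have h1 : (h : G) ≠ 1 := fun h' => Finset.ne_of_mem_erase hh (Subtype.ext h')
              simp only [hF, if_neg h1, hψ]
              rw [hcval i j hij _ (h₀ i) ⟨h, hHL j h.2⟩ h.2 fun h' => h1 (congrArg Subtype.val h'),
                hd₀ i, Nat.cast_one, one_mul, map_intCast, sq],
            Finset.sum_const, nsmul_eq_mul, Finset.card_erase_of_mem (Finset.mem_univ _),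
            Finset.card_univ, ← Nat.card_eq_fintype_card, ← hh j, Nat.add_sub_cancel]
          simp only [OneMemClass.coe_one, hF, if_true, zero_add]
          push_cast; ring
        exact_mod_cast h6
      rw [h5]
      have h7 : (1 : ℤ) ≤ (c i j hij) ^ 2 := by
        have := sq_pos_of_ne_zero hc0
        omega
      exact le_mul_of_one_le_left (by positivity) (by exact_mod_cast h7)
    -- counting
    have hcount : ∑ j, ((Subgroup.normalizer (H j : Set G)).index : ℝ) * ((e j : ℝ) * n j) =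
        (Nat.card G : ℝ) - 1 := by
      have h5 := sum_over_cover H hcop hTI hcover (F := fun g : G => if g = 1 then (0 : ℂ) else 1)
        (fun g h => by simp only [conj_eq_one_iff]) (by simp)
      have h6 : ∀ j, ∑ h : H j, (if (h : G) = 1 then (0 : ℂ) else 1) = ((e j * n j : ℕ) : ℂ) := by
        intro j
        have := hh j
        rw [← Finset.add_sum_erase _ _ (Finset.mem_univ (1 : H j)),
          Finset.sum_congr rfl fun (h : H j) (hh' : h ∈ (Finset.univ : Finset (H j)).erase 1) => if_neg fun h' : (h : G) = 1 =>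
            Finset.ne_of_mem_erase hh' (Subtype.ext h'),
          Finset.sum_const, Finset.card_erase_of_mem (Finset.mem_univ _), Finset.card_univ,
          ← Nat.card_eq_fintype_card, ← hh j, Nat.add_sub_cancel]
        simp
      rw [← Finset.add_sum_erase _ _ (Finset.mem_univ (1 : G)), if_pos rfl, zero_add,
        Finset.sum_congr rfl fun g hg => if_neg (Finset.ne_of_mem_erase hg), Finset.sum_const,
        Finset.card_erase_of_mem (Finset.mem_univ _), Finset.card_univ, ← Nat.card_eq_fintype_card,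
        Finset.sum_congr rfl fun j _ => by rw [h6 j], nsmul_eq_mul, mul_one] at h5
      have h7 : (Nat.card G - 1 : ℕ) = ∑ j, (Subgroup.normalizer (H j : Set G)).index * (e j * n j) := by
        exact_mod_cast h5
      have h8 : (((Nat.card G - 1 : ℕ)) : ℝ) =
          ((∑ j, (Subgroup.normalizer (H j : Set G)).index * (e j * n j) : ℕ) : ℝ) := by rw [h7]
      push_cast [Nat.cast_sub (Nat.card_pos : 1 ≤ Nat.card G)] at h8
      linarith
    set I : ι → ℝ := fun j => ((Subgroup.normalizer (H j : Set G)).index : ℝ) with hI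
    have hIpos : ∀ j, 0 ≤ I j := fun j => Nat.cast_nonneg _
    have hiZ : i ∉ Z := fun h => (Finset.mem_filter.mp h).2.1 rfl
    have hcmp : ∑ j, I j * ((e j : ℝ) * n j) ≤ ∑ j, I j * r j +
        (I i * ((e i : ℝ) * n i) - I i * ((e i : ℝ) * Nat.card (H i) - (e i : ℝ) ^ 2)) +
        ∑ j ∈ Z, I j * ((e j : ℝ) * n j) := by
      rw [← Finset.sum_filter_add_sum_filter_not Finset.univ (· ∈ Z),
        ← Finset.sum_filter_add_sum_filter_not Finset.univ (· ∈ Z) (fun j => I j * r j)]
      simp only [Finset.filter_mem_eq_inter, Finset.univ_inter]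
      have hi' : i ∈ Finset.univ.filter (fun j => j ∉ Z) := by simp [hiZ]
      rw [← Finset.add_sum_erase _ _ hi', ← Finset.add_sum_erase _ (fun j => I j * r j) hi']
      have h5 : ∑ j ∈ (Finset.univ.filter (fun j => j ∉ Z)).erase i, I j * ((e j : ℝ) * n j) ≤
          ∑ j ∈ (Finset.univ.filter (fun j => j ∉ Z)).erase i, I j * r j := by
        refine Finset.sum_le_sum fun j hj => ?_
        obtain ⟨hji, hjZ⟩ := Finset.mem_erase.mp hj
        exact mul_le_mul_of_nonneg_left (hother' j (Finset.mem_filter.mp hjZ).2 hji) (hIpos j)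
      have h6 : 0 ≤ ∑ j ∈ Z, I j * r j :=
        Finset.sum_nonneg fun j _ => mul_nonneg (hIpos j) (hr0 j)
      have h7 := mul_le_mul_of_nonneg_left hown' (hIpos i)
      linarith
    rw [hcount, hsumr] at hcmp
    have hg : (0 : ℝ) < Nat.card G := by exact_mod_cast Nat.card_pos
    have hD1 : (1 : ℝ) ≤ (D : ℝ) ^ 2 := by
      have : (1 : ℝ) ≤ D := by exact_mod_cast hDpos
      nlinarith
    have hIeq : ∀ j, I j * ((e j : ℝ) * Nat.card (H j)) = Nat.card G := hindex
    have hdiv : ∀ j, I j * ((e j : ℝ) * n j) = (Nat.card G : ℝ) * ((n j : ℝ) / Nat.card (H j)) := by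
      intro j
      have hpos : (Nat.card (H j) : ℝ) ≠ 0 := Nat.cast_ne_zero.mpr Nat.card_pos.ne'
      rw [← hIeq j]; field_simp
    have hee : I i * (e i : ℝ) ^ 2 = (Nat.card G : ℝ) * ((e i : ℝ) / Nat.card (H i)) := by
      have hpos : (Nat.card (H i) : ℝ) ≠ 0 := Nat.cast_ne_zero.mpr Nat.card_pos.ne'
      rw [← hIeq i]; field_simp
    rw [mul_sub, hIeq i, hdiv i, hee, Finset.sum_congr rfl fun j _ => hdiv j, ← Finset.mul_sum] at hcmp
    refine le_of_mul_le_mul_left ?_ hg
    rw [mul_one, mul_add, add_div, mul_add]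
    linarith
  -- the arithmetic contradiction
  have he : (3 : ℝ) ≤ e i := by exact_mod_cast he3 i
  have hcol : ∑ j ∈ Z, n j ≤ e i - 1 := hcolumn i
  have hle : ∀ j, (2 * e i + 1 : ℝ) ≤ Nat.card (H j) := fun j => by
    have h6 : e i * 2 + 1 ≤ Nat.card (H j) := by
      rw [← hh j]
      exact Nat.add_le_add_right (Nat.mul_le_mul (hmin j (Finset.mem_univ _)) (hn2 j)) 1
    have : ((e i * 2 + 1 : ℕ) : ℝ) ≤ Nat.card (H j) := by exact_mod_cast h6
    push_cast at this
    linarith
  have hbound : ((∑ j ∈ Z, n j : ℕ) : ℝ) ≤ (e i : ℝ) - 1 := by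
    have h3 := he3 i
    have : (((∑ j ∈ Z, n j) + 1 : ℕ) : ℝ) ≤ e i := by
      exact_mod_cast (by omega : (∑ j ∈ Z, n j) + 1 ≤ e i)
    push_cast at this ⊢
    linarith
  have hB : ∑ j ∈ Z, (n j : ℝ) / Nat.card (H j) ≤ ((∑ j ∈ Z, n j : ℕ) : ℝ) / (2 * e i + 1) := by
    rw [Nat.cast_sum, Finset.sum_div]
    exact Finset.sum_le_sum fun j _ =>
      div_le_div_of_nonneg_left (Nat.cast_nonneg _) (by positivity) (hle j)
  have hB' : ((∑ j ∈ Z, n j : ℕ) : ℝ) / (2 * e i + 1) ≤ ((e i : ℝ) - 1) / (2 * e i + 1) := by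
    gcongr
  have h8 : (e i + 2 : ℝ) / (2 * e i + 1) + ((e i : ℝ) - 1) / (2 * e i + 1) = 1 := by
    rw [← add_div, div_eq_one_iff_eq (by positivity)]; ring
  by_cases hni : n i = 2
  · have hcard : (Nat.card (H i) : ℝ) = 2 * e i + 1 := by
      rw [← hh i, hni]; push_cast; ring
    rw [hcard, hni] at hkey
    push_cast at hkey
    have hlt : ∑ j ∈ Z, (n j : ℝ) / Nat.card (H j) < ((e i : ℝ) - 1) / (2 * e i + 1) := by
      rcases Z.eq_empty_or_nonempty with hempty | hne
      · rw [hempty, Finset.sum_empty]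
        exact div_pos (by linarith) (by positivity)
      · refine lt_of_lt_of_le ?_ hB'
        rw [Nat.cast_sum, Finset.sum_div]
        refine Finset.sum_lt_sum_of_nonempty hne fun j hj => ?_
        obtain ⟨hij, -⟩ := (Finset.mem_filter.mp hj).2
        have hne' : (Nat.card (H j) : ℝ) ≠ 2 * e i + 1 := by
          intro heq
          rw [← hcard, Nat.cast_inj] at heq
          have hco := hcop i j hij
          rw [heq, Nat.coprime_self] at hco
          have := hh i
          rw [hni, hco] at this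
          have := he3 i
          omega
        refine div_lt_div_of_pos_left ?_ (by positivity) (lt_of_le_of_ne (hle j) (Ne.symm hne'))
        have := hn2 j
        exact_mod_cast (by omega : 0 < n j)
    linarith
  · have h4 : 4 ≤ n i := by
      obtain ⟨r, hr⟩ := hn_even i
      have := hn2 i
      omega
    have hA : (e i + n i : ℝ) / Nat.card (H i) < (e i + 2 : ℝ) / (2 * e i + 1) := by
      rw [div_lt_div_iff₀ (by exact_mod_cast Nat.card_pos) (by positivity), ← hh i]
      push_cast
      have h1 : (4 : ℝ) ≤ n i := by exact_mod_cast h4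
      nlinarith [mul_pos (show (0 : ℝ) < (n i : ℝ) - 2 by linarith)
        (show (0 : ℝ) < (e i : ℝ) ^ 2 - 1 by nlinarith)]
    linarith

end Cfsg.Lib.Characters.Coherence
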