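import Cfsg.Agent.Lib.Characters.Coherence.Glue
import Cfsg.Agent.Lib.Characters.FixedChars
import Cfsg.Agent.Lib.Characters.Correspondence
import Cfsg.Agent.Lib.Characters.Brauer
import Cfsg.Agent.S1492

/-!
# Characters of an odd Frobenius group with trivial intersection kernel
-/

set_option linter.unusedSectionVars false
set_option linter.style.haveILetI false

open scoped ComplexConjugate

namespace Cfsg.Lib.Characters.Coherence

variable {G : Type*} [Group G] [Fintype G] {L : Subgroup G} [Fintype L] {K : Subgroup L}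

/-- `L` has odd order and is a Frobenius group whose kernel `K` is nilpotent and a trivial
intersection subgroup of `G`. -/
structure OddFrobTI (L : Subgroup G) (K : Subgroup L) : Prop where
  ti : TIPair L K
  cent : ∀ k ∈ K, k ≠ 1 → Subgroup.centralizer ({k} : Set L) ≤ K
  odd : Odd (Nat.card L)
  nil : Group.IsNilpotent K
  ne_bot : K ≠ ⊥
  ne_top : K ≠ ⊤

/-- All irreducible characters, as a finite set of functions. -/
noncomputable def irrFin (L : Type*) [Group L] [Finite L] : Finset (L → ℂ) :=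
  haveI := Fintype.ofFinite (IrrCharacter L)
  (Finset.univ : Finset (IrrCharacter L)).map ⟨Subtype.val, Subtype.val_injective⟩

theorem mem_irrFin {L : Type*} [Group L] [Finite L] {χ : L → ℂ} :
    χ ∈ irrFin L ↔ IsIrrCharacter L χ := by
  simp [irrFin]

/-- `M` is contained in the kernel of `χ`. -/
def TrivOn {L : Type*} [Group L] (M : Subgroup L) (χ : L → ℂ) : Prop := ∀ m ∈ M, χ m = χ 1

open Classical in
/-- Irreducible characters nontrivial on `K` and trivial on `M`. -/
noncomputable def exOn (K M : Subgroup L) : Finset (L → ℂ) :=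
  (irrFin L).filter fun χ => ¬ TrivOn K χ ∧ TrivOn M χ

theorem mem_exOn {M : Subgroup L} {χ : L → ℂ} :
    χ ∈ exOn K M ↔ IsIrrCharacter L χ ∧ ¬ TrivOn K χ ∧ TrivOn M χ := by
  classical
  simp [exOn, mem_irrFin]

theorem trivOn_bot {L : Type*} [Group L] (χ : L → ℂ) : TrivOn ⊥ χ := fun m hm => by
  rw [Subgroup.mem_bot.mp hm]

theorem exOn_subset_bot {M : Subgroup L} {χ : L → ℂ} (h : χ ∈ exOn K M) : χ ∈ exOn K ⊥ :=
  mem_exOn.mpr ⟨(mem_exOn.mp h).1, (mem_exOn.mp h).2.1, trivOn_bot χ⟩

/-- The degree of an induced character divided by the index. -/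
noncomputable def dd (K : Subgroup L) (χ : L → ℂ) : ℕ := degC χ / K.index

theorem OddFrobTI.exists_ind [K.Normal] [Fintype K] (hK : OddFrobTI L K) {χ : L → ℂ} (h : χ ∈ exOn K ⊥) :
    ∃ θ : K → ℂ, IsIrrCharacter K θ ∧ θ ≠ (fun _ => 1) ∧ χ = indFun K θ ∧
      classInner (fun n : K => χ n) θ ≠ 0 := by
  classical
  obtain ⟨hirr, hnt, -⟩ := mem_exOn.mp h
  obtain ⟨θ, hθ, hne⟩ := classInner_res_ne_zero (N := K) hirr
  have hne1 : θ ≠ fun _ => 1 := by
    intro h1
    refine hnt fun k hk => ?_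
    have hcl := clifford hirr hθ hne
    have horb : orbitFinset K θ = {θ} := by
      refine Finset.eq_singleton_iff_unique_mem.mpr
        ⟨mem_orbitFinset.mpr ⟨1, (conjFn_one θ).symm⟩, fun x hx => ?_⟩
      obtain ⟨g, rfl⟩ := mem_orbitFinset.mp hx
      funext n; simp [conjFn, h1]
    rw [horb, Finset.sum_singleton] at hcl
    have e1 := congrFun hcl ⟨k, hk⟩
    have e2 := congrFun hcl 1
    simp only [Pi.smul_apply, h1, OneMemClass.coe_one] at e1 e2
    rw [e1, e2]
  refine ⟨θ, hθ, hne1, ?_, hne⟩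
  have hind : IsIrrCharacter L (indFun K θ) :=
    (isIrrCharacter_indFun_iff hθ).mpr (inertia_eq_of_centralizer_le K hK.cent hθ hne1)
  by_contra hne'
  refine hne ?_
  rw [← conj_classInner, ← classInner_indFun K θ hirr.isClassFunction,
    classInner_irr_ne hind hirr (Ne.symm hne'), map_zero]

theorem OddFrobTI.supp [K.Normal] (hK : OddFrobTI L K) {M : Subgroup L} {χ : L → ℂ}
    (h : χ ∈ exOn K M) : Supp K χ := by
  haveI := Fintype.ofFinite K
  obtain ⟨θ, -, -, rfl, -⟩ := hK.exists_ind (exOn_subset_bot h)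
  exact ⟨(mem_exOn.mp h).1, fun x hx => indFun_apply_not_mem θ hx⟩

theorem OddFrobTI.degC_eq [K.Normal] (hK : OddFrobTI L K) {M : Subgroup L} {χ : L → ℂ}
    (h : χ ∈ exOn K M) : degC χ = K.index * dd K χ ∧ 0 < dd K χ ∧ dd K χ ∣ Nat.card K := by
  haveI := Fintype.ofFinite K
  obtain ⟨θ, hθ, -, hχ, -⟩ := hK.exists_ind (exOn_subset_bot h)
  have hdeg : degC χ = K.index * degC θ := by
    have h1 : (degC χ : ℂ) = ((K.index * degC θ : ℕ) : ℂ) := by
      rw [← degC_spec (mem_exOn.mp h).1.isCharacter, hχ, indFun_one_apply,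
        degC_spec hθ.isCharacter, Nat.cast_mul]
    exact_mod_cast h1
  have hdd : dd K χ = degC θ := by
    rw [dd, hdeg, Nat.mul_div_cancel_left _ (Nat.pos_of_ne_zero K.index_ne_zero_of_finite)]
  rw [hdd]
  exact ⟨hdeg, degC_pos hθ, degree_dvd_card hθ (degC_spec hθ.isCharacter)⟩

theorem sum_irr_subgroup_eq_zero {L : Type*} [Group L] [Fintype L] {M : Subgroup L} [M.Normal]
    [Fintype M] {χ : L → ℂ} (hχ : IsIrrCharacter L χ) (h : ¬ TrivOn M χ) :
    ∑ m : M, χ m = 0 := by
  classical
  have h0 : classInner (fun n : M => χ n) (fun _ => 1) = 0 := by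
    by_contra hne
    refine h fun k hk => ?_
    have hcl := clifford hχ isIrrCharacter_one hne
    have horb : orbitFinset M (fun _ : M => (1 : ℂ)) = {fun _ => 1} := by
      refine Finset.eq_singleton_iff_unique_mem.mpr
        ⟨mem_orbitFinset.mpr ⟨1, (conjFn_one _).symm⟩, fun x hx => ?_⟩
      obtain ⟨g, rfl⟩ := mem_orbitFinset.mp hx
      funext n; simp [conjFn]
    rw [horb, Finset.sum_singleton] at hcl
    have e1 := congrFun hcl ⟨k, hk⟩
    have e2 := congrFun hcl 1
    simp only [Pi.smul_apply, OneMemClass.coe_one] at e1 e2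
    rw [e1, e2]
  simpa [classInner] using h0

/-- The squares of the degrees of the characters trivial on `M` add up to the index of `M`. -/
theorem sum_sq_trivOn {L : Type*} [Group L] [Fintype L] (M : Subgroup L) [M.Normal]
    [DecidablePred (TrivOn M)] :
    ∑ χ ∈ (irrFin L).filter (TrivOn M), degC χ ^ 2 = M.index := by
  classical
  haveI := Fintype.ofFinite M
  haveI := Fintype.ofFinite (IrrCharacter L)
  have h1 : ∑ m : M, ∑ χ ∈ irrFin L, χ 1 * χ m = (Nat.card L : ℂ) := by
    rw [Finset.sum_eq_single (1 : M)]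
    · rw [irrFin, Finset.sum_map]
      simpa [sq] using (sum_degree_mul_irr (G := L) 1)
    · intro m _ hm
      rw [irrFin, Finset.sum_map]
      have h := sum_degree_mul_irr (G := L) (m : L)
      rw [if_neg (fun h : (m : L) = 1 => hm (Subtype.ext h))] at h
      simpa using h
    · simp
  rw [Finset.sum_comm] at h1
  have h2 : ∀ χ ∈ irrFin L, ∑ m : M, χ 1 * χ m =
      if TrivOn M χ then ((Nat.card M * degC χ ^ 2 : ℕ) : ℂ) else 0 := by
    intro χ hχ
    rw [mem_irrFin] at hχ
    split_ifs with h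
    · rw [Finset.sum_congr rfl fun m _ => by rw [h m m.2], Finset.sum_const, Finset.card_univ,
        ← Nat.card_eq_fintype_card, nsmul_eq_mul, degC_spec hχ.isCharacter]
      push_cast; ring
    · rw [← Finset.mul_sum, sum_irr_subgroup_eq_zero hχ h, mul_zero]
  rw [Finset.sum_congr rfl h2, ← Finset.sum_filter, ← Nat.cast_sum, Nat.cast_inj,
    ← Finset.mul_sum, ← Subgroup.card_mul_index M] at h1
  exact Nat.eq_of_mul_eq_mul_left Nat.card_pos h1

theorem OddFrobTI.sum_dd [K.Normal] (hK : OddFrobTI L K) (M : Subgroup L) [M.Normal]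
    (hMK : M ≤ K) : K.index * ∑ χ ∈ exOn K M, dd K χ ^ 2 + 1 = M.relIndex K := by
  classical
  have hM := sum_sq_trivOn (L := L) M
  have hKs := sum_sq_trivOn (L := L) K
  rw [← Finset.sum_filter_add_sum_filter_not _ (TrivOn K)] at hM
  have e1 : ((irrFin L).filter (TrivOn M)).filter (TrivOn K) = (irrFin L).filter (TrivOn K) := by
    ext χ
    simp only [Finset.mem_filter]
    exact ⟨fun h => ⟨h.1.1, h.2⟩, fun h => ⟨⟨h.1, fun m hm => h.2 m (hMK hm)⟩, h.2⟩⟩
  have e2 : ((irrFin L).filter (TrivOn M)).filter (fun χ => ¬ TrivOn K χ) = exOn K M := by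
    ext χ
    simp [mem_exOn, mem_irrFin]
    tauto
  rw [e1, e2, hKs, Finset.sum_congr rfl fun χ hχ => by rw [(hK.degC_eq hχ).1, mul_pow],
    ← Finset.mul_sum, ← Subgroup.relIndex_mul_index hMK] at hM
  have hpos : 0 < K.index := Nat.pos_of_ne_zero K.index_ne_zero_of_finite
  refine Nat.eq_of_mul_eq_mul_right hpos ?_
  rw [← hM]
  ring

theorem OddFrobTI.odd_index (hK : OddFrobTI L K) : Odd K.index :=
  hK.odd.of_dvd_nat K.index_dvd_card

theorem OddFrobTI.odd_card (hK : OddFrobTI L K) : Odd (Nat.card K) :=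
  hK.odd.of_dvd_nat K.card_subgroup_dvd_card

theorem OddFrobTI.coprime_index [K.Normal] (hK : OddFrobTI L K) :
    Nat.Coprime K.index (Nat.card K) := by
  have h := hK.sum_dd ⊥ bot_le
  rw [Subgroup.relIndex_bot_left] at h
  rw [← h, mul_comm]
  simp [Nat.coprime_mul_right_add_right]

theorem OddFrobTI.one_lt_index (hK : OddFrobTI L K) : 1 < K.index :=
  Subgroup.one_lt_index_of_ne_top hK.ne_top

/-- A number congruent to one modulo the index that is odd and not one is at least `2e + 1`. -/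
theorem OddFrobTI.two_mul_index_lt (hK : OddFrobTI L K) {x T : ℕ} (hx : K.index * T + 1 = x)
    (hodd : Odd x) (h1 : x ≠ 1) : 2 * K.index < x := by
  have hT0 : T ≠ 0 := fun h => h1 (by rw [← hx, h, mul_zero])
  have hT1 : T ≠ 1 := by
    rintro rfl
    rw [mul_one] at hx
    exact (Nat.not_even_iff_odd.mpr hodd) (hx ▸ hK.odd_index.add_one)
  have : K.index * 2 ≤ K.index * T := Nat.mul_le_mul_left _ (by omega)
  omega

/-- The degree bound for characters trivial on `B`, for a section `D/B` central in `K/B`. -/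
theorem OddFrobTI.dd_sq_mul_le [K.Normal] (hK : OddFrobTI L K) {B D : Subgroup L} [B.Normal]
    (hBD : B ≤ D) (hDK : D ≤ K) (hcent : ∀ d ∈ D, ∀ k ∈ K, d * k * d⁻¹ * k⁻¹ ∈ B) {χ : L → ℂ}
    (hχ : χ ∈ exOn K B) : dd K χ ^ 2 * Nat.card D ≤ Nat.card K := by
  classical
  haveI := Fintype.ofFinite K
  obtain ⟨θ, hθ, -, hind, hne⟩ := hK.exists_ind (exOn_subset_bot hχ)
  have hχc := (mem_exOn.mp hχ).1
  have hker : ∀ b ∈ B.subgroupOf K, θ b = θ 1 := fun b hb =>
    char_ker_constituent (isCharacter_restrict hχc.isCharacter K) hθ hne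
      ((mem_exOn.mp hχ).2.2 b hb)
  have key := Cfsg.Agent.S1492.result θ hθ (B.subgroupOf K) ⊤ (D.subgroupOf K)
    (fun x hx => hBD hx) le_top
    (fun c _ b hb => Subgroup.Normal.conj_mem inferInstance b hb c)
    (fun d hd c _ => hcent _ hd _ c.2) hker
  rw [Subgroup.card_top, Nat.card_congr (Subgroup.subgroupOfEquivOfLe hDK).toEquiv] at key
  have hdd : dd K χ = degC θ := by
    rw [dd, show degC χ = K.index * degC θ from ?_,
      Nat.mul_div_cancel_left _ (Nat.pos_of_ne_zero K.index_ne_zero_of_finite)]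
    have h1 : (degC χ : ℂ) = ((K.index * degC θ : ℕ) : ℂ) := by
      rw [← degC_spec hχc.isCharacter, hind, indFun_one_apply, degC_spec hθ.isCharacter,
        Nat.cast_mul]
    exact_mod_cast h1
  rw [degC_spec hθ.isCharacter, Complex.norm_natCast] at key
  have hKpos : (0 : ℝ) < Nat.card K := by exact_mod_cast Nat.card_pos
  have : ((dd K χ : ℝ)) ^ 2 * Nat.card D ≤ Nat.card K := by
    rw [hdd]
    refine le_of_mul_le_mul_right ?_ hKpos
    linarith
  exact_mod_cast this

end Cfsg.Lib.Characters.Coherence
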