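import Cfsg.Agent.Lib.Characters.Coherence.Extend

/-!
# Gluing two coherent sets
-/

set_option linter.unusedSectionVars false
set_option linter.style.haveILetI false

open scoped ComplexConjugate

namespace Cfsg.Lib.Characters.Coherence

set_option maxHeartbeats 1200000

variable {G : Type*} [Group G] [Fintype G] {L : Subgroup G} [Fintype L] {K : Subgroup L}

theorem sign_mul {a b : ℤ} (ha : a = 1 ∨ a = -1) (hb : b = 1 ∨ b = -1) :
    a * b = 1 ∨ a * b = -1 := by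
  rcases ha with rfl | rfl <;> rcases hb with rfl | rfl <;> simp

theorem exists_other {𝒮 : Finset (L → ℂ)} {φ₀ : L → ℂ} (h0 : IsIrrCharacter L φ₀)
    (hsum : 2 * degC φ₀ ^ 2 ≤ ∑ φ ∈ 𝒮, degC φ ^ 2) (φ : L → ℂ) (_hφ : φ ∈ 𝒮) (h₀ : φ₀ ∈ 𝒮) :
    ∃ φ' ∈ 𝒮, φ' ≠ φ := by
  by_contra hno
  push Not at hno
  have : 𝒮 = {φ₀} := Finset.eq_singleton_iff_unique_mem.mpr
    ⟨h₀, fun x hx => (hno x hx).trans (hno φ₀ h₀).symm⟩
  rw [this, Finset.sum_singleton] at hsum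
  have := pow_pos (degC_pos h0) 2
  omega

/-- The images of disjoint coherent sets are disjoint. -/
theorem CohData.image_ne (hK : TIPair L K) {𝒮 𝒯 : Finset (L → ℂ)} {εS εT : ℤ}
    {μS μT : (L → ℂ) → G → ℂ} (hcS : CohData L 𝒮 εS μS) (hcT : CohData L 𝒯 εT μT)
    (hS : ∀ φ ∈ 𝒮, Supp K φ) (hT : ∀ φ ∈ 𝒯, Supp K φ) (hdisj : Disjoint 𝒮 𝒯) {φ φ' χ χ' : L → ℂ}
    (hφ : φ ∈ 𝒮) (hφ' : φ' ∈ 𝒮) (hφne : φ' ≠ φ) (hχ : χ ∈ 𝒯) (hχ' : χ' ∈ 𝒯) (hχne : χ' ≠ χ) :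
    μS φ ≠ μT χ := by
  classical
  intro heq
  have hne : ∀ a ∈ 𝒮, ∀ b ∈ 𝒯, a ≠ b := fun a ha b hb hab =>
    Finset.disjoint_left.mp hdisj ha (hab ▸ hb)
  have hz : classInner (indFun L (comb φ φ')) (indFun L (comb χ χ')) = 0 := by
    rw [hK.classInner_ind]
    · simp [comb, classInner_sub_left, classInner_sub_right, classInner_smul_left,
        classInner_smul_right, inner_irr (hS _ hφ) (hT _ hχ), inner_irr (hS _ hφ) (hT _ hχ'),
        inner_irr (hS _ hφ') (hT _ hχ), inner_irr (hS _ hφ') (hT _ hχ'),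
        hne _ hφ _ hχ, hne _ hφ _ hχ', hne _ hφ' _ hχ, hne _ hφ' _ hχ']
    · intro x hx; simp [comb, (hS _ hφ).van x hx, (hS _ hφ').van x hx]
    · intro x hx; simp [comb, (hT _ hχ).van x hx, (hT _ hχ').van x hx]
    · intro a b
      simp [comb, (hT _ hχ).irr.isClassFunction a b, (hT _ hχ').irr.isClassFunction a b]
    · simp [comb, degC_spec (hS _ hφ).irr.isCharacter, degC_spec (hS _ hφ').irr.isCharacter, mul_comm]
  rw [hcS.rel φ hφ φ' hφ', hcT.rel χ hχ χ' hχ'] at hz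
  simp only [classInner_smul_left, classInner_smul_right, conj_intCast', mul_eq_zero] at hz
  have hsS : (εS : ℂ) ≠ 0 := by rcases hcS.sign with rfl | rfl <;> norm_num
  have hsT : (εT : ℂ) ≠ 0 := by rcases hcT.sign with rfl | rfl <;> norm_num
  simp only [hsS, hsT, false_or] at hz
  have h1 : μS φ' ≠ μS φ := fun h => hφne (hcS.inj hφ' hφ h)
  have h2 : μT χ' ≠ μT χ := fun h => hχne (hcT.inj hχ' hχ h)
  simp only [classInner_sub_left, classInner_sub_right, classInner_smul_left,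
    classInner_smul_right, map_natCast, classInner_irr (hcS.irr _ hφ) (hcT.irr _ hχ),
    classInner_irr (hcS.irr _ hφ) (hcT.irr _ hχ'), classInner_irr (hcS.irr _ hφ') (hcT.irr _ hχ),
    classInner_irr (hcS.irr _ hφ') (hcT.irr _ hχ'), if_pos heq] at hz
  rw [if_neg (heq ▸ h1 : μS φ' ≠ μT χ), if_neg (fun h => h2 (h.symm.trans heq))] at hz
  obtain ⟨p1, p2⟩ := And.intro (degC_pos (hS _ hφ').irr) (degC_pos (hT _ hχ').irr)
  split_ifs at hz
  · have h3 : ((degC φ' * degC χ' + degC φ * degC χ : ℕ) : ℂ) = 0 := by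
      push_cast; linear_combination hz
    rw [Nat.cast_eq_zero] at h3
    have := Nat.mul_pos p1 p2
    omega
  · have h3 : ((degC φ' * degC χ' : ℕ) : ℂ) = 0 := by
      push_cast; linear_combination hz
    rw [Nat.cast_eq_zero] at h3
    have := Nat.mul_pos p1 p2
    omega

theorem quad_nonneg (B S : ℤ) (hS : 2 ≤ S) : 0 ≤ 2 * B + B ^ 2 * S := by
  rcases le_or_gt 0 B with hB | hB
  · positivity
  · nlinarith [mul_le_mul_of_nonneg_left hS (sq_nonneg B)]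

theorem quad_zero {B S : ℤ} (hS : 2 ≤ S) (h : 2 * B + B ^ 2 * S = 0) :
    B = 0 ∨ (B = -1 ∧ S = 2) := by
  have h' : B * (2 + B * S) = 0 := by linarith
  rcases mul_eq_zero.mp h' with h0 | h0
  · exact Or.inl h0
  · right
    have hB : B < 0 := by
      by_contra hB
      have : 0 ≤ B * S := mul_nonneg (by omega) (by omega)
      linarith
    have hB1 : B = -1 := by
      by_contra hne
      have : B * S ≤ (-2) * S := mul_le_mul_of_nonneg_right (by omega) (by omega)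
      linarith
    subst hB1
    exact ⟨rfl, by linarith⟩

/-- The exceptional solution of the quadratic is absorbed by exchanging two labels. -/
theorem CohData.fix_labels {𝒮 : Finset (L → ℂ)} {ε : ℤ} {μ : (L → ℂ) → G → ℂ}
    (h : CohData L 𝒮 ε μ) {φ₀ : L → ℂ} (h₀ : φ₀ ∈ 𝒮) (hirr : ∀ φ ∈ 𝒮, IsIrrCharacter L φ)
    (n : (L → ℂ) → ℕ) (hn : ∀ φ ∈ 𝒮, degC φ = n φ * degC φ₀)
    (hS : (2 : ℤ) ≤ ∑ φ ∈ 𝒮, (n φ : ℤ) ^ 2) {B : ℤ}
    (hB : 2 * B + B ^ 2 * ∑ φ ∈ 𝒮, (n φ : ℤ) ^ 2 = 0) [DecidableEq (L → ℂ)] :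
    ∃ (s : ℤ) (μ' : (L → ℂ) → G → ℂ), (s = 1 ∨ s = -1) ∧ CohData L 𝒮 (s * ε) μ' ∧
      (∀ φ ∈ 𝒮, ∃ ψ ∈ 𝒮, μ' φ = μ ψ) ∧
      ∑ φ ∈ 𝒮, (((if φ = φ₀ then 1 else 0) + B * n φ : ℤ) : ℂ) • μ φ = (s : ℂ) • μ' φ₀ := by
  classical
  rcases quad_zero hS hB with rfl | ⟨rfl, hS2⟩
  · refine ⟨1, μ, Or.inl rfl, by simpa using h, fun φ hφ => ⟨φ, hφ, rfl⟩, ?_⟩
    rw [Finset.sum_eq_single_of_mem φ₀ h₀ fun φ _ hne => by simp [hne]]
    simp
  · have hn0 : n φ₀ = 1 := by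
      have h' := hn φ₀ h₀
      exact Nat.eq_of_mul_eq_mul_right (degC_pos (hirr _ h₀)) (by rw [one_mul]; exact h'.symm)
    rw [← Finset.add_sum_erase 𝒮 _ h₀, hn0, Nat.cast_one, one_pow] at hS2
    have hrest : ∑ φ ∈ 𝒮.erase φ₀, (n φ : ℤ) ^ 2 = 1 := by linarith
    have hpos : ∀ φ ∈ 𝒮.erase φ₀, (1 : ℤ) ≤ (n φ : ℤ) ^ 2 := by
      intro φ hφ
      have : n φ ≠ 0 := fun h0 => (degC_pos (hirr φ (Finset.mem_of_mem_erase hφ))).ne' (by
        rw [hn φ (Finset.mem_of_mem_erase hφ), h0, zero_mul])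
      nlinarith [Nat.pos_of_ne_zero this]
    have hcard : (𝒮.erase φ₀).card = 1 := by
      have h1 : ((𝒮.erase φ₀).card : ℤ) ≤ 1 := by
        rw [← hrest, Finset.card_eq_sum_ones, Nat.cast_sum]
        exact Finset.sum_le_sum fun φ hφ => by simpa using hpos φ hφ
      have h2 : (𝒮.erase φ₀).card ≠ 0 := fun h2 => by
        rw [Finset.card_eq_zero.mp h2, Finset.sum_empty] at hrest; omega
      omega
    obtain ⟨φ₁, hφ₁⟩ := Finset.card_eq_one.mp hcard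
    have hmem : φ₁ ∈ 𝒮.erase φ₀ := by rw [hφ₁]; exact Finset.mem_singleton_self _
    obtain ⟨hne, hmem'⟩ := Finset.mem_erase.mp hmem
    rw [hφ₁, Finset.sum_singleton] at hrest
    have hn1 : n φ₁ = 1 := by
      have : (n φ₁) ^ 2 = 1 := by exact_mod_cast hrest
      exact (pow_eq_one_iff.mp this).resolve_right (by norm_num)
    have hmemS : ∀ φ ∈ 𝒮, φ = φ₀ ∨ φ = φ₁ := fun φ hφ => by
      by_cases h' : φ = φ₀
      · exact Or.inl h'
      · exact Or.inr (Finset.mem_singleton.mp (hφ₁ ▸ Finset.mem_erase.mpr ⟨h', hφ⟩))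
    have hd1 : degC φ₁ = degC φ₀ := by rw [hn φ₁ hmem', hn1, one_mul]
    refine ⟨-1, μ ∘ Equiv.swap φ₀ φ₁, Or.inr rfl, ?_, fun φ hφ => ?_, ?_⟩
    · refine CohData.of_base (sign_mul (Or.inr rfl) h.sign) (fun φ hφ => ?_) ?_ φ₀ (hirr _ h₀)
        fun φ hφ => ⟨1, ?_, ?_⟩
      · rcases hmemS φ hφ with rfl | rfl <;>
          simp [Equiv.swap_apply_left, Equiv.swap_apply_right, h.irr _ hmem', h.irr _ h₀]
      · intro a ha b hb hab
        have hsw : ∀ c ∈ 𝒮, Equiv.swap φ₀ φ₁ c ∈ 𝒮 := fun c hc => by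
          rcases hmemS c hc with rfl | rfl <;>
            simp [Equiv.swap_apply_left, Equiv.swap_apply_right, hmem', h₀]
        exact (Equiv.swap φ₀ φ₁).injective (h.inj (hsw a ha) (hsw b hb) hab)
      · rcases hmemS φ hφ with rfl | rfl
        · rw [one_mul]
        · rw [one_mul, hd1]
      · rcases hmemS φ hφ with rfl | rfl
        · rw [show base φ φ 1 = φ - φ by simp [base], indFun_sub, sub_self]; simp
        · have h5 := h.rel_base h₀ hmem' (hirr _ h₀) (n := 1) (by rw [one_mul, hd1])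
          rw [h5]
          funext g
          simp [Equiv.swap_apply_left, Equiv.swap_apply_right]
          ring
    · rcases hmemS φ hφ with rfl | rfl
      · exact ⟨φ₁, hmem', by simp⟩
      · exact ⟨φ₀, h₀, by simp⟩
    · rw [← Finset.add_sum_erase 𝒮 _ h₀, hφ₁, Finset.sum_singleton, hn0, hn1]
      simp [hne, Equiv.swap_apply_left]

/-- Gluing two coherent sets. -/
theorem CohData.glue (hK : TIPair L K) {𝒮 𝒯 : Finset (L → ℂ)} {εS εT : ℤ}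
    {μS μT : (L → ℂ) → G → ℂ} (hcS : CohData L 𝒮 εS μS) (hcT : CohData L 𝒯 εT μT)
    (hS : ∀ φ ∈ 𝒮, Supp K φ) (hT : ∀ φ ∈ 𝒯, Supp K φ) (hdisj : Disjoint 𝒮 𝒯)
    {φ₀ χ₀ : L → ℂ} (h₀ : φ₀ ∈ 𝒮) (hχ₀ : χ₀ ∈ 𝒯) (hdivS : ∀ φ ∈ 𝒮, degC φ₀ ∣ degC φ)
    (hdivT : ∀ χ ∈ 𝒯, degC χ₀ ∣ degC χ) {d : ℕ} (hd : degC χ₀ = d * degC φ₀)
    (hsumS : 2 * degC φ₀ ^ 2 ≤ ∑ φ ∈ 𝒮, degC φ ^ 2)
    (hsumT : 2 * degC χ₀ ^ 2 ≤ ∑ χ ∈ 𝒯, degC χ ^ 2)
    (hcong : ∃ k : ℤ, classInner (indFun L (base φ₀ χ₀ d)) (μS φ₀) = (d : ℂ) * k)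
    [DecidableEq (L → ℂ)] : IsCohTI L (𝒮 ∪ 𝒯) := by
  classical
  have hne : ∀ a ∈ 𝒮, ∀ b ∈ 𝒯, a ≠ b := fun a ha b hb hab =>
    Finset.disjoint_left.mp hdisj ha (hab ▸ hb)
  have hi0 := (hS _ h₀).irr
  have hj0 := (hT _ hχ₀).irr
  have hdpos : 0 < d := by
    have := degC_pos hj0
    rw [hd] at this
    exact Nat.pos_of_mul_pos_right this
  choose! n hn using hdivS
  choose! m hm using hdivT
  have hn' : ∀ φ ∈ 𝒮, degC φ = n φ * degC φ₀ := fun φ hφ => by rw [hn φ hφ, mul_comm]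
  have hm' : ∀ χ ∈ 𝒯, degC χ = m χ * degC χ₀ := fun φ hφ => by rw [hm φ hφ, mul_comm]
  have hn0 : n φ₀ = 1 :=
    Nat.eq_of_mul_eq_mul_right (degC_pos hi0) (by rw [one_mul]; exact (hn' φ₀ h₀).symm)
  have hm0 : m χ₀ = 1 :=
    Nat.eq_of_mul_eq_mul_right (degC_pos hj0) (by rw [one_mul]; exact (hm' χ₀ hχ₀).symm)
  have hSn : (2 : ℤ) ≤ ∑ φ ∈ 𝒮, (n φ : ℤ) ^ 2 := by
    rw [Finset.sum_congr rfl fun φ hφ => by rw [hn' φ hφ, mul_pow], ← Finset.sum_mul] at hsumS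
    exact_mod_cast Nat.le_of_mul_le_mul_right hsumS (pow_pos (degC_pos hi0) 2)
  have hTn : (2 : ℤ) ≤ ∑ χ ∈ 𝒯, (m χ : ℤ) ^ 2 := by
    rw [Finset.sum_congr rfl fun φ hφ => by rw [hm' φ hφ, mul_pow], ← Finset.sum_mul] at hsumT
    exact_mod_cast Nat.le_of_mul_le_mul_right hsumT (pow_pos (degC_pos hj0) 2)
  set F := indFun L (base φ₀ χ₀ d) with hF
  have hFgen : IsGeneralizedCharacter G F :=
    isGeneralized_indFun L (base_gen hi0.isCharacter hj0.isCharacter)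
  have hFF : classInner F F = 1 + (d : ℂ) ^ 2 := by
    rw [hF, hK.inner_base (hS _ h₀) (hT _ hχ₀) (hS _ h₀) (hT _ hχ₀) hd,
      inner_irr (hT _ hχ₀) (hT _ hχ₀), inner_irr (hT _ hχ₀) (hS _ h₀),
      inner_irr (hS _ h₀) (hT _ hχ₀), inner_irr (hS _ h₀) (hS _ h₀)]
    simp [hne _ h₀ _ hχ₀, Ne.symm (hne _ h₀ _ hχ₀)]
    ring
  have hsS := sign_sq hcS.sign
  have hsT := sign_sq hcT.sign
  obtain ⟨k, hk⟩ := hcong
  obtain ⟨c, hc⟩ := classInner_int hFgen (isGeneralized_of_isCharacter (hcT.irr _ hχ₀).isCharacter)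
  set B : ℤ := -(1 + εS * k) with hBdef
  set B' : ℤ := εT * c - 1 with hB'def
  set aS : (L → ℂ) → ℤ := fun φ => -(εS * d) * ((if φ = φ₀ then 1 else 0) + B * n φ) with haSdef
  set aT : (L → ℂ) → ℤ := fun χ => εT * ((if χ = χ₀ then 1 else 0) + B' * m χ) with haTdef
  have haS : ∀ φ ∈ 𝒮, classInner F (μS φ) = (aS φ : ℂ) := by
    intro φ hφ
    have h1 : classInner F (indFun L (base φ₀ φ (n φ))) =
        (d : ℂ) * ((n φ : ℂ) - if φ = φ₀ then 1 else 0) := by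
      rw [hF, hK.inner_base (hS _ h₀) (hT _ hχ₀) (hS _ h₀) (hS _ hφ) hd,
        inner_irr (hT _ hχ₀) (hS _ hφ), inner_irr (hT _ hχ₀) (hS _ h₀),
        inner_irr (hS _ h₀) (hS _ hφ), inner_irr (hS _ h₀) (hS _ h₀)]
      simp [Ne.symm (hne _ h₀ _ hχ₀), Ne.symm (hne _ hφ _ hχ₀), eq_comm (a := φ₀) (b := φ)]
      split_ifs <;> ring
    rw [hcS.rel_base h₀ hφ hi0 (hn' φ hφ), classInner_smul_right, conj_intCast',
      classInner_sub_right, classInner_smul_right, map_natCast] at h1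
    rw [hk] at h1
    simp only [haSdef, hBdef]
    push_cast
    linear_combination (εS : ℂ) * h1 - (classInner F (μS φ) - (n φ : ℂ) * ((d : ℂ) * k)) * hsS
      - (n φ : ℂ) * ((d : ℂ) * k) * hsS
  have haT : ∀ χ ∈ 𝒯, classInner F (μT χ) = (aT χ : ℂ) := by
    intro χ hχ
    have h1 : classInner F (indFun L (base χ₀ χ (m χ))) =
        (if χ = χ₀ then 1 else 0) - (m χ : ℂ) := by
      rw [hF, hK.inner_base (hS _ h₀) (hT _ hχ₀) (hT _ hχ₀) (hT _ hχ) hd,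
        inner_irr (hT _ hχ₀) (hT _ hχ), inner_irr (hT _ hχ₀) (hT _ hχ₀),
        inner_irr (hS _ h₀) (hT _ hχ), inner_irr (hS _ h₀) (hT _ hχ₀)]
      simp [hne _ h₀ _ hχ₀, hne _ h₀ _ hχ, eq_comm (a := χ₀) (b := χ)]
    rw [hcT.rel_base hχ₀ hχ hj0 (hm' χ hχ), classInner_smul_right, conj_intCast',
      classInner_sub_right, classInner_smul_right, map_natCast, hc] at h1
    simp only [haTdef, hB'def]
    push_cast
    linear_combination (εT : ℂ) * h1 - (classInner F (μT χ) - (m χ : ℂ) * (c : ℂ)) * hsT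
      - (m χ : ℂ) * (c : ℂ) * hsT + 0 * hsS
  set ν : (L → ℂ) → G → ℂ := fun x => if x ∈ 𝒮 then μS x else μT x with hν
  set a : (L → ℂ) → ℤ := fun x => if x ∈ 𝒮 then aS x else aT x with hadef
  have hnotS : ∀ χ ∈ 𝒯, χ ∉ 𝒮 := fun χ hχ h' => hne χ h' χ hχ rfl
  have himg : ∀ φ ∈ 𝒮, ∀ χ ∈ 𝒯, μS φ ≠ μT χ := by
    intro φ hφ χ hχ
    obtain ⟨φ', hφ', hφne⟩ := exists_other hi0 hsumS φ hφ h₀
    obtain ⟨χ', hχ', hχne⟩ := exists_other hj0 hsumT χ hχ hχ₀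
    exact hcS.image_ne hK hcT hS hT hdisj hφ hφ' hφne hχ hχ' hχne
  have hνirr : ∀ x ∈ 𝒮 ∪ 𝒯, IsIrrCharacter G (ν x) := by
    intro x hx
    by_cases hxS : x ∈ 𝒮
    · simp only [hν, if_pos hxS]; exact hcS.irr x hxS
    · simp only [hν, if_neg hxS]
      exact hcT.irr x ((Finset.mem_union.mp hx).resolve_left hxS)
  have hνinj : Set.InjOn ν (↑(𝒮 ∪ 𝒯) : Set (L → ℂ)) := by
    intro x hx y hy hxy
    rw [Finset.mem_coe, Finset.mem_union] at hx hy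
    by_cases hxS : x ∈ 𝒮 <;> by_cases hyS : y ∈ 𝒮 <;>
      simp only [hν, hxS, hyS, if_true, if_false] at hxy
    · exact hcS.inj hxS hyS hxy
    · exact absurd hxy (himg x hxS y (hy.resolve_left hyS))
    · exact absurd hxy.symm (himg y hyS x (hx.resolve_left hxS))
    · exact hcT.inj (hx.resolve_left hxS) (hy.resolve_left hyS) hxy
  have ha : ∀ x ∈ 𝒮 ∪ 𝒯, classInner F (ν x) = (a x : ℂ) := by
    intro x hx
    by_cases hxS : x ∈ 𝒮
    · simp only [hν, hadef, if_pos hxS]; exact haS x hxS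
    · simp only [hν, hadef, if_neg hxS]
      exact haT x ((Finset.mem_union.mp hx).resolve_left hxS)
  obtain ⟨hrgen, -, hrnorm⟩ := rest_spec (𝒮 ∪ 𝒯) ν hνirr hνinj hFgen a ha
  obtain ⟨N, hN, hN0⟩ := gen_norm_nonneg hrgen
  have hqS : ∑ φ ∈ 𝒮, a φ ^ 2 =
      (d : ℤ) ^ 2 * (1 + 2 * B + B ^ 2 * ∑ φ ∈ 𝒮, (n φ : ℤ) ^ 2) := by
    have h2 : ∀ φ ∈ 𝒮, a φ ^ 2 = (d : ℤ) ^ 2 *
        ((if φ = φ₀ then 1 + 2 * B else 0) + B ^ 2 * (n φ : ℤ) ^ 2) := by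
      intro φ hφ
      simp only [hadef, if_pos hφ, haSdef]
      rw [mul_pow, neg_sq, mul_pow, sq εS]
      have : εS * εS = 1 := by rcases hcS.sign with h' | h' <;> rw [h'] <;> norm_num
      rw [this, one_mul]
      split_ifs with h'
      · subst h'; rw [hn0]; push_cast; ring
      · ring
    rw [Finset.sum_congr rfl h2, ← Finset.mul_sum, Finset.sum_add_distrib, Finset.sum_ite_eq',
      if_pos h₀, ← Finset.mul_sum]
  have hqT : ∑ χ ∈ 𝒯, a χ ^ 2 = 1 + 2 * B' + B' ^ 2 * ∑ χ ∈ 𝒯, (m χ : ℤ) ^ 2 := by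
    have h2 : ∀ χ ∈ 𝒯, a χ ^ 2 =
        (if χ = χ₀ then 1 + 2 * B' else 0) + B' ^ 2 * (m χ : ℤ) ^ 2 := by
      intro χ hχ
      simp only [hadef, if_neg (hnotS χ hχ), haTdef]
      rw [mul_pow, sq εT]
      have : εT * εT = 1 := by rcases hcT.sign with h' | h' <;> rw [h'] <;> norm_num
      rw [this, one_mul]
      split_ifs with h'
      · subst h'; rw [hm0]; push_cast; ring
      · ring
    rw [Finset.sum_congr rfl h2, Finset.sum_add_distrib, Finset.sum_ite_eq', if_pos hχ₀,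
      ← Finset.mul_sum]
  have hNeq : (N : ℤ) = -((d : ℤ) ^ 2 * (2 * B + B ^ 2 * ∑ φ ∈ 𝒮, (n φ : ℤ) ^ 2)) -
      (2 * B' + B' ^ 2 * ∑ χ ∈ 𝒯, (m χ : ℤ) ^ 2) := by
    have h4 : ((N : ℤ) : ℂ) = ((1 + (d : ℤ) ^ 2 - ∑ x ∈ 𝒮 ∪ 𝒯, a x ^ 2 : ℤ) : ℂ) := by
      push_cast; rw [← hN, hrnorm, hFF]
    rw [Int.cast_inj.mp h4, Finset.sum_union hdisj, hqS, hqT]
    ring
  have hd2 : (0 : ℤ) < (d : ℤ) ^ 2 := by positivity
  have hnn := quad_nonneg B _ hSn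
  have hnn' := quad_nonneg B' _ hTn
  have hzS : 2 * B + B ^ 2 * ∑ φ ∈ 𝒮, (n φ : ℤ) ^ 2 = 0 := by
    nlinarith [Int.natCast_nonneg N]
  have hzT : 2 * B' + B' ^ 2 * ∑ χ ∈ 𝒯, (m χ : ℤ) ^ 2 = 0 := by
    nlinarith [Int.natCast_nonneg N]
  have hN' : N = 0 := by
    rw [hzS, hzT] at hNeq
    simpa using hNeq
  obtain ⟨s, μS', hs, hcS', himS, hsumeqS⟩ :=
    hcS.fix_labels h₀ (fun φ hφ => (hS φ hφ).irr) n hn' hSn hzS
  obtain ⟨s', μT', hs', hcT', himT, hsumeqT⟩ :=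
    hcT.fix_labels hχ₀ (fun φ hφ => (hT φ hφ).irr) m hm' hTn hzT
  have hFeq : F = -((εS * d : ℤ) : ℂ) • ((s : ℂ) • μS' φ₀) + (εT : ℂ) • ((s' : ℂ) • μT' χ₀) := by
    rw [← hsumeqS, ← hsumeqT, Finset.smul_sum, Finset.smul_sum]
    have h0 := sub_eq_zero.mp (hN0 hN')
    rw [Finset.sum_union hdisj] at h0
    refine h0.trans ?_
    congr 1
    · refine Finset.sum_congr rfl fun φ hφ => ?_
      simp only [hadef, hν, if_pos hφ, haSdef, smul_smul]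
      push_cast; ring_nf
    · refine Finset.sum_congr rfl fun χ hχ => ?_
      simp only [hadef, hν, if_neg (hnotS χ hχ), haTdef, smul_smul]
      push_cast; ring_nf
  have hsign : s * εS = s' * εT := by
    obtain ⟨D₀, hD₀, hD₀'⟩ := (hcS'.irr _ h₀).exists_degree_pos
    obtain ⟨D₁, hD₁, hD₁'⟩ := (hcT'.irr _ hχ₀).exists_degree_pos
    have h1 := congrFun hFeq 1
    rw [hF, indFun_base_one hi0.isCharacter hj0.isCharacter hd] at h1
    simp only [Pi.add_apply, Pi.smul_apply, smul_eq_mul, hD₀', hD₁'] at h1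
    have h2 : (0 : ℤ) = -(εS * d) * (s * D₀) + εT * (s' * D₁) := by exact_mod_cast h1
    have hp : (0 : ℤ) < (d : ℤ) * D₀ := by positivity
    have hq : (0 : ℤ) < (D₁ : ℤ) := by exact_mod_cast hD₁
    rcases sign_mul hs hcS.sign with h3 | h3 <;> rcases sign_mul hs' hcT.sign with h4 | h4 <;>
      rw [h3, h4] <;> nlinarith
  set μ'' : (L → ℂ) → G → ℂ := fun x => if x ∈ 𝒮 then μS' x else μT' x with hμ''
  refine ⟨s * εS, μ'', CohData.of_base hcS'.sign (fun x hx => ?_) ?_ φ₀ hi0 fun x hx => ?_⟩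
  · by_cases hxS : x ∈ 𝒮
    · simp only [hμ'', if_pos hxS]; exact hcS'.irr x hxS
    · simp only [hμ'', if_neg hxS]
      exact hcT'.irr x ((Finset.mem_union.mp hx).resolve_left hxS)
  · intro x hx y hy hxy
    rw [Finset.mem_coe, Finset.mem_union] at hx hy
    have himg' : ∀ φ ∈ 𝒮, ∀ χ ∈ 𝒯, μS' φ ≠ μT' χ := fun φ hφ χ hχ h' => by
      obtain ⟨ψ, hψ, hψ'⟩ := himS φ hφ
      obtain ⟨η, hη, hη'⟩ := himT χ hχ
      exact himg ψ hψ η hη (hψ'.symm.trans (h'.trans hη'))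
    by_cases hxS : x ∈ 𝒮 <;> by_cases hyS : y ∈ 𝒮 <;>
      simp only [hμ'', hxS, hyS, if_true, if_false] at hxy
    · exact hcS'.inj hxS hyS hxy
    · exact absurd hxy (himg' x hxS y (hy.resolve_left hyS))
    · exact absurd hxy.symm (himg' y hyS x (hx.resolve_left hxS))
    · exact hcT'.inj (hx.resolve_left hxS) (hy.resolve_left hyS) hxy
  · by_cases hxS : x ∈ 𝒮
    · refine ⟨n x, hn' x hxS, ?_⟩
      simp only [hμ'', if_pos hxS, if_pos h₀]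
      exact hcS'.rel_base h₀ hxS hi0 (hn' x hxS)
    · have hxT := (Finset.mem_union.mp hx).resolve_left hxS
      refine ⟨m x * d, by rw [hm' x hxT, hd, mul_assoc], ?_⟩
      simp only [hμ'', if_neg hxS, if_pos h₀]
      have hb : base φ₀ x (m x * d) = base χ₀ x (m x) + (m x : ℂ) • base φ₀ χ₀ d := by
        funext g; simp [base]; ring
      rw [hb, indFun_add, indFun_smul, ← hF, hFeq, hcT'.rel_base hχ₀ hxT hj0 (hm' x hxT)]
      funext g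
      have e1 : (s : ℂ) * (εS : ℂ) = (s' : ℂ) * (εT : ℂ) := by exact_mod_cast hsign
      simp only [Pi.add_apply, Pi.sub_apply, Pi.smul_apply, smul_eq_mul]
      push_cast
      linear_combination (-(μT' x g)) * e1

end Cfsg.Lib.Characters.Coherence
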