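import Cfsg.Agent.Lib.Characters.Coherence.Congruence

/-!
# Coherence for odd Frobenius groups with trivial intersection kernel
-/

set_option linter.unusedSectionVars false
set_option linter.style.haveILetI false
set_option maxHeartbeats 800000

open scoped ComplexConjugate commutatorElement

namespace Cfsg.Lib.Characters.Coherence

variable {G : Type*} [Group G] [Fintype G] {L : Subgroup G} [Fintype L] {K : Subgroup L}

theorem lcs_normal [K.Normal] (n : ℕ) : (K.lowerCentralSeries n).Normal := by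
  induction n with
  | zero => rw [Subgroup.lowerCentralSeries_zero]; infer_instance
  | succ n ih => rw [Subgroup.lowerCentralSeries_succ]; infer_instance

theorem lcs_le [K.Normal] (n : ℕ) : K.lowerCentralSeries n ≤ K :=
  (K.lowerCentralSeries_antitone (Nat.zero_le n)).trans_eq (K.lowerCentralSeries_zero)

theorem exOn_mono {M M' : Subgroup L} (h : M' ≤ M) : exOn K M ⊆ exOn K M' := fun _ hχ =>
  mem_exOn.mpr ⟨(mem_exOn.mp hχ).1, (mem_exOn.mp hχ).2.1, fun m hm => (mem_exOn.mp hχ).2.2 m (h hm)⟩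

/-- A cofactor of numbers congruent to one is congruent to one. -/
theorem cofactor_mod {e a b n : ℕ} (hn : 0 < n) (h : n * (e * a + 1) = e * b + 1) :
    ∃ T, e * T + 1 = n := by
  refine ⟨b - n * a, ?_⟩
  rw [Nat.mul_sub]
  have h1 : n * (e * a + 1) = e * (n * a) + n := by ring
  omega

theorem OddFrobTI.card_eq_relIndex_mul [K.Normal] {M : Subgroup L} (h : M ≤ K) :
    M.relIndex K * Nat.card M = Nat.card K := by
  rw [mul_comm, ← Subgroup.relIndex_bot_left M, Subgroup.relIndex_mul_relIndex ⊥ M K bot_le h,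
    Subgroup.relIndex_bot_left]

theorem OddFrobTI.odd_relIndex [K.Normal] (hK : OddFrobTI L K) {M : Subgroup L} (h : M ≤ K) :
    Odd (M.relIndex K) :=
  hK.odd_card.of_dvd_nat ⟨_, (card_eq_relIndex_mul h).symm⟩

theorem OddFrobTI.derived_lt [K.Normal] (hK : OddFrobTI L K) : K.lowerCentralSeries 1 ≠ K := by
  intro h
  have hall : ∀ n, K.lowerCentralSeries n = K := by
    intro n
    induction n with
    | zero => exact K.lowerCentralSeries_zero
    | succ n ih =>
      rw [Subgroup.lowerCentralSeries_succ, ih]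
      rwa [Subgroup.lowerCentralSeries_succ, Subgroup.lowerCentralSeries_zero] at h
  obtain ⟨n, hn⟩ := K.isNilpotent_iff_lowerCentralSeries.mp hK.nil
  exact hK.ne_bot ((hall n).symm.trans hn)

theorem OddFrobTI.two_mul_lt_derived [K.Normal] (hK : OddFrobTI L K) :
    2 * K.index < (K.lowerCentralSeries 1).relIndex K := by
  haveI := lcs_normal (K := K) 1
  refine hK.two_mul_index_lt (hK.sum_dd _ (lcs_le 1)) (hK.odd_relIndex (lcs_le 1)) fun h => ?_
  exact hK.derived_lt (le_antisymm (lcs_le 1) (Subgroup.relIndex_eq_one.mp h))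

theorem OddFrobTI.dd_derived [K.Normal] (hK : OddFrobTI L K) {χ : L → ℂ}
    (hχ : χ ∈ exOn K (K.lowerCentralSeries 1)) : dd K χ = 1 := by
  haveI := lcs_normal (K := K) 1
  have h := hK.dd_sq_mul_le (D := K) (lcs_le 1) le_rfl
    (fun d hd k hk => by
      rw [← commutatorElement_def, Subgroup.lowerCentralSeries_succ, Subgroup.lowerCentralSeries_zero]
      exact Subgroup.commutator_mem_commutator hd hk) hχ
  have hpos := (hK.degC_eq hχ).2.1
  have h2 : dd K χ ^ 2 ≤ 1 := Nat.le_of_mul_le_mul_right (by rwa [one_mul]) Nat.card_pos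
  nlinarith

theorem OddFrobTI.sum_degC_sq [K.Normal] (hK : OddFrobTI L K) {𝒮 : Finset (L → ℂ)}
    (h : 𝒮 ⊆ exOn K ⊥) : ∑ χ ∈ 𝒮, degC χ ^ 2 = K.index ^ 2 * ∑ χ ∈ 𝒮, dd K χ ^ 2 := by
  rw [Finset.mul_sum]
  exact Finset.sum_congr rfl fun χ hχ => by rw [(hK.degC_eq (h hχ)).1, mul_pow]

/-- The linear characters of `K` give a coherent set with at least two members. -/
theorem OddFrobTI.linear_part [K.Normal] (hK : OddFrobTI L K) :
    IsCohTI L (exOn K (K.lowerCentralSeries 1)) ∧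
      2 ≤ (exOn K (K.lowerCentralSeries 1)).card := by
  haveI := lcs_normal (K := K) 1
  refine ⟨star hK.ti _ (fun φ hφ => hK.supp hφ) fun φ hφ ψ hψ => ?_, ?_⟩
  · rw [(hK.degC_eq hφ).1, (hK.degC_eq hψ).1, hK.dd_derived hφ, hK.dd_derived hψ]
  · have h := hK.sum_dd _ (lcs_le (K := K) 1)
    rw [Finset.sum_congr rfl fun χ hχ => by rw [hK.dd_derived hχ, one_pow],
      ← Finset.card_eq_sum_ones] at h
    have h2 := hK.two_mul_lt_derived
    by_contra hc
    obtain h' | h' : (exOn K (K.lowerCentralSeries 1)).card = 0 ∨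
        (exOn K (K.lowerCentralSeries 1)).card = 1 := by omega
    · rw [h', mul_zero, zero_add] at h
      have h3 := hK.one_lt_index
      rw [← h] at h2
      linarith
    · rw [h', mul_one] at h
      exact (Nat.not_even_iff_odd.mpr (hK.odd_relIndex (lcs_le (K := K) 1)))
        (h ▸ hK.odd_index.add_one)

/-- Coherence when the abelian quotient of the kernel is large. -/
theorem OddFrobTI.coherent_of_large [K.Normal] (hK : OddFrobTI L K)
    (hbig : (2 * K.index + 1) ^ 2 ≤ (K.lowerCentralSeries 1).relIndex K) :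
    IsCohTI L (exOn K ⊥) := by
  classical
  obtain ⟨hA, hA2⟩ := hK.linear_part
  obtain ⟨φ₀, h₀⟩ : (exOn K (K.lowerCentralSeries 1)).Nonempty :=
    Finset.card_pos.mp (by omega)
  have hd₀ : degC φ₀ = K.index := by
    rw [(hK.degC_eq h₀).1, hK.dd_derived h₀, mul_one]
  have hchain : ∀ i, IsCohTI L (exOn K (K.lowerCentralSeries (i + 1))) := by
    intro i
    induction i with
    | zero => exact hA
    | succ i ih =>
      haveI := lcs_normal (K := K) (i + 1)
      haveI := lcs_normal (K := K) (i + 1 + 1)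
      have hanti : K.lowerCentralSeries (i + 1 + 1) ≤ K.lowerCentralSeries (i + 1) :=
        K.lowerCentralSeries_antitone (Nat.le_succ _)
      have hsub := exOn_mono (K := K) hanti
      rw [← Finset.union_eq_right.mpr hsub]
      refine extend_many hK.ti ih (fun φ hφ => hK.supp hφ)
        (exOn_mono (K := K) (K.lowerCentralSeries_antitone (by omega : 1 ≤ i + 1)) h₀)
        (fun φ hφ => ⟨dd K φ, by rw [hd₀, (hK.degC_eq hφ).1]⟩) _ fun χ hχ => ?_
      refine ⟨hK.supp hχ, ⟨dd K χ, by rw [hd₀, (hK.degC_eq hχ).1]⟩, ?_⟩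
      have hb := hK.dd_sq_mul_le (D := K.lowerCentralSeries (i + 1)) hanti (lcs_le _)
        (fun d hd k hk => by
          rw [← commutatorElement_def, Subgroup.lowerCentralSeries_succ (n := i + 1)]
          exact Subgroup.commutator_mem_commutator hd hk) hχ
      rw [← card_eq_relIndex_mul (lcs_le (K := K) (i + 1))] at hb
      have hb' := Nat.le_of_mul_le_mul_right hb Nat.card_pos
      have hsum := hK.sum_dd _ (lcs_le (K := K) (i + 1))
      have hdvd : (K.lowerCentralSeries 1).relIndex K ∣ (K.lowerCentralSeries (i + 1)).relIndex K :=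
        Subgroup.relIndex_dvd_of_le_left K (K.lowerCentralSeries_antitone (by omega : 1 ≤ i + 1))
      have hx : (2 * K.index + 1) ^ 2 ≤ (K.lowerCentralSeries (i + 1)).relIndex K :=
        hbig.trans (Nat.le_of_dvd (hK.odd_relIndex (lcs_le _)).pos hdvd)
      rw [hK.sum_degC_sq (fun φ hφ => exOn_subset_bot hφ), hd₀, (hK.degC_eq hχ).1]
      set x := (K.lowerCentralSeries (i + 1)).relIndex K
      set T := ∑ φ ∈ exOn K (K.lowerCentralSeries (i + 1)), dd K φ ^ 2
      have hdx : dd K χ * (2 * K.index + 1) ≤ x := by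
        by_contra hlt
        push Not at hlt
        have h3 : x * x < (dd K χ * (2 * K.index + 1)) * (dd K χ * (2 * K.index + 1)) :=
          Nat.mul_self_lt_mul_self hlt
        have h4 : (dd K χ * (2 * K.index + 1)) * (dd K χ * (2 * K.index + 1)) ≤ x * x := by
          calc _ = dd K χ ^ 2 * (2 * K.index + 1) ^ 2 := by ring
            _ ≤ x * x := Nat.mul_le_mul hb' hx
        omega
      have he := hK.one_lt_index
      have hd1 := (hK.degC_eq hχ).2.1
      have hlt : 2 * dd K χ * K.index < K.index * T := by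
        rcases eq_or_lt_of_le (Nat.succ_le_of_lt hd1) with h | h
        · rw [← h]
          nlinarith
        · nlinarith
      calc 2 * (K.index * dd K χ) * K.index = K.index * (2 * dd K χ * K.index) := by ring
        _ < K.index * (K.index * T) := Nat.mul_lt_mul_of_pos_left hlt (by omega)
        _ = K.index ^ 2 * T := by ring
  obtain ⟨n, hn⟩ := K.isNilpotent_iff_lowerCentralSeries.mp hK.nil
  have hn' : K.lowerCentralSeries (n + 1) = ⊥ :=
    le_bot_iff.mp (hn ▸ K.lowerCentralSeries_antitone (Nat.le_succ n))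
  have h := hchain n
  rwa [hn'] at h

/-- Either the abelian quotient of the kernel is large or the kernel is a group of prime power order. -/
theorem OddFrobTI.large_or_isPGroup [K.Normal] (hK : OddFrobTI L K) :
    (2 * K.index + 1) ^ 2 ≤ (K.lowerCentralSeries 1).relIndex K ∨
      ∃ p, p.Prime ∧ IsPGroup p K := by
  classical
  haveI := lcs_normal (K := K) 1
  set h0 := (K.lowerCentralSeries 1).relIndex K with hh0
  have h0big := hK.two_mul_lt_derived
  set p := h0.minFac
  have hp : p.Prime := Nat.minFac_prime (by have := hK.one_lt_index; rw [hh0]; omega)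
  haveI := Fact.mk hp
  haveI := hK.nil
  set P : Sylow p K := default
  haveI hPn : (P : Subgroup K).Normal :=
    Sylow.normal_of_normalizerCondition Group.normalizerCondition_of_isNilpotent P
  haveI hPc : (P : Subgroup K).Characteristic := Sylow.characteristic_of_normal P hPn
  set Q : Subgroup L := (P : Subgroup K).map K.subtype
  have hQK : Q ≤ K := Subgroup.map_subtype_le _
  haveI : Q.Normal := ConjAct.normal_of_characteristic_of_normal
  set M := Q ⊔ K.lowerCentralSeries 1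
  have hMK : M ≤ K := sup_le hQK (lcs_le 1)
  haveI : M.Normal := Subgroup.sup_normal _ _
  by_cases hMeq : M = K
  · right
    refine ⟨p, hp, ?_⟩
    have hall : ∀ i, K ≤ Q ⊔ K.lowerCentralSeries i := by
      intro i
      induction i with
      | zero => rw [K.lowerCentralSeries_zero]; exact le_sup_right
      | succ i ih =>
        haveI := lcs_normal (K := K) (i + 1)
        refine hMeq.ge.trans (sup_le le_sup_left ?_)
        rw [Subgroup.lowerCentralSeries_succ (n := 0), Subgroup.lowerCentralSeries_zero,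
          Subgroup.commutator_le]
        intro x hx y hy
        obtain ⟨q, hq, g, hg, rfl⟩ := Subgroup.mem_sup_of_normal_left.mp (ih hx)
        rw [show ⁅q * g, y⁆ = q * ⁅g, y⁆ * q⁻¹ * ⁅q, y⁆ by
          simp only [commutatorElement_def]; group]
        refine mul_mem (Subgroup.Normal.conj_mem (Subgroup.sup_normal _ _) _
          (Subgroup.mem_sup_right ?_) q) (Subgroup.mem_sup_left ?_)
        · rw [Subgroup.lowerCentralSeries_succ]
          exact Subgroup.commutator_mem_commutator hg hy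
        · rw [commutatorElement_def,
            show q * y * q⁻¹ * y⁻¹ = q * (y * q⁻¹ * y⁻¹) by group]
          exact mul_mem hq (Subgroup.Normal.conj_mem inferInstance _ (inv_mem hq) y)
    obtain ⟨n, hn⟩ := K.isNilpotent_iff_lowerCentralSeries.mp hK.nil
    have hKQ : Q = K := le_antisymm hQK (by simpa [hn] using hall n)
    exact P.2.of_equiv (((P : Subgroup K).equivMapOfInjective K.subtype
      Subtype.val_injective).trans (MulEquiv.subgroupCongr hKQ))
  · left
    have hdec : (K.lowerCentralSeries 1).relIndex M * M.relIndex K = h0 :=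
      Subgroup.relIndex_mul_relIndex _ M K le_sup_right hMK
    have hndvd : ¬ p ∣ M.relIndex K := by
      intro hd
      have h1 : M.relIndex K ∣ Q.relIndex K := Subgroup.relIndex_dvd_of_le_left K le_sup_left
      have h2 : Q.relIndex K = (P : Subgroup K).index := by
        rw [Subgroup.relIndex, show Q.subgroupOf K = (P : Subgroup K) from
          Subgroup.comap_map_eq_self_of_injective Subtype.val_injective _]
      exact P.not_dvd_index (h2 ▸ hd.trans h1)
    have hn1 : (K.lowerCentralSeries 1).relIndex M ≠ 1 := fun h => by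
      rw [h, one_mul] at hdec
      exact hndvd (hdec ▸ Nat.minFac_dvd h0)
    have hsumM := hK.sum_dd M hMK
    have hsum0 := hK.sum_dd _ (lcs_le (K := K) 1)
    have hodd0 := hK.odd_relIndex (lcs_le (K := K) 1)
    rw [← hh0, ← hdec] at hodd0 hsum0
    rw [← hdec]
    set a := ∑ χ ∈ exOn K M, dd K χ ^ 2
    set b := ∑ χ ∈ exOn K (K.lowerCentralSeries 1), dd K χ ^ 2
    obtain ⟨T, hT⟩ := cofactor_mod (e := K.index) (a := a) (b := b)
      (Nat.odd_mul.mp hodd0).1.pos (by rw [hsumM]; exact hsum0.symm)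
    have hA := hK.two_mul_index_lt hsumM (Nat.odd_mul.mp hodd0).2
      fun h => hMeq (le_antisymm hMK (Subgroup.relIndex_eq_one.mp h))
    have hB := hK.two_mul_index_lt hT (Nat.odd_mul.mp hodd0).1 hn1
    rw [sq]
    exact Nat.mul_le_mul hB hA

/-- The characters nontrivial on a central subgroup, for a kernel of prime power order. -/
theorem OddFrobTI.coherent_central [K.Normal] (hK : OddFrobTI L K) {p : ℕ} (hp : p.Prime)
    (hpK : IsPGroup p K) {Z : Subgroup L} [Z.Normal] (hZK : Z ≤ K) (hZ1 : Z ≠ ⊥)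
    (hZc : ∀ z ∈ Z, ∀ k ∈ K, z * k = k * z) [DecidableEq (L → ℂ)] :
    IsCohTI L (exOn K ⊥ \ exOn K Z) ∧
      2 * Z.relIndex K ≤ ∑ χ ∈ exOn K ⊥ \ exOn K Z, dd K χ ^ 2 ∧
      ∀ χ ∈ exOn K ⊥ \ exOn K Z, dd K χ ^ 2 ≤ Z.relIndex K ∧ ∃ k, dd K χ = p ^ k := by
  classical
  haveI := Fact.mk hp
  obtain ⟨r, hr⟩ := IsPGroup.iff_card.mp hpK
  set X := exOn K ⊥ \ exOn K Z with hX
  set x := Z.relIndex K with hxdef
  have hXsub : X ⊆ exOn K ⊥ := Finset.sdiff_subset
  have hxcard : x * Nat.card Z = Nat.card K := card_eq_relIndex_mul hZK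
  have hbd : ∀ χ ∈ X, dd K χ ^ 2 ≤ x := by
    intro χ hχ
    have h := hK.dd_sq_mul_le (B := ⊥) (D := Z) bot_le hZK
      (fun d hd k hk => by rw [Subgroup.mem_bot, hZc d hd k hk]; group) (hXsub hχ)
    rw [← hxcard] at h
    exact Nat.le_of_mul_le_mul_right h Nat.card_pos
  have hpow : ∀ χ ∈ X, ∃ k, dd K χ = p ^ k := fun χ hχ => by
    obtain ⟨k, -, hk⟩ := (Nat.dvd_prime_pow hp).mp (hr ▸ (hK.degC_eq (hXsub hχ)).2.2)
    exact ⟨k, hk⟩
  -- the total
  have hsum0 := hK.sum_dd ⊥ bot_le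
  rw [Subgroup.relIndex_bot_left, ← hxcard] at hsum0
  have hsumZ := hK.sum_dd Z hZK
  rw [← hxdef] at hsumZ
  have hsplit : ∑ χ ∈ X, dd K χ ^ 2 + ∑ χ ∈ exOn K Z, dd K χ ^ 2 =
      ∑ χ ∈ exOn K ⊥, dd K χ ^ 2 := Finset.sum_sdiff (exOn_mono bot_le)
  set T := ∑ χ ∈ X, dd K χ ^ 2 with hT
  set TZ := ∑ χ ∈ exOn K Z, dd K χ ^ 2
  rw [← hsplit, mul_add] at hsum0
  have hxpos : 0 < x := by omega
  have hzT : K.index * T + x = x * Nat.card Z := by omega
  have hz : 2 * K.index < Nat.card Z := by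
    obtain ⟨T', hT'⟩ := cofactor_mod (e := K.index) (a := TZ) (b := T + TZ) (n := Nat.card Z)
      Nat.card_pos (by rw [mul_add K.index T TZ, hsumZ, hsum0, mul_comm])
    refine hK.two_mul_index_lt hT' (hK.odd_card.of_dvd_nat ⟨x, by rw [← hxcard, mul_comm]⟩) fun h => ?_
    exact hZ1 (Subgroup.card_eq_one.mp h)
  have hTbig : 2 * x ≤ T := by
    refine Nat.le_of_mul_le_mul_left ?_ (Nat.pos_of_ne_zero K.index_ne_zero_of_finite)
    nlinarith [Nat.mul_le_mul_left x (Nat.succ_le_of_lt hz)]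
  refine ⟨?_, hTbig, fun χ hχ => ⟨hbd χ hχ, hpow χ hχ⟩⟩
  have hsq_dvd : ∀ χ ∈ X, dd K χ ^ 2 ∣ T := by
    intro χ hχ
    obtain ⟨k, hk⟩ := hpow χ hχ
    obtain ⟨s, -, hs⟩ := (Nat.dvd_prime_pow hp).mp (hr ▸ Dvd.intro _ hxcard)
    have hle := hbd χ hχ
    rw [hk, hs, ← pow_mul, Nat.pow_le_pow_iff_right hp.one_lt] at hle
    have hdx : dd K χ ^ 2 ∣ x := by rw [hk, hs, ← pow_mul]; exact pow_dvd_pow p hle
    have hco : Nat.Coprime (dd K χ ^ 2) K.index :=
      (hK.coprime_index.symm.of_dvd_left (Dvd.dvd.trans hdx (Dvd.intro _ hxcard)))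
    refine hco.dvd_of_dvd_mul_left ?_
    rw [Nat.dvd_add_iff_left hdx, hzT]
    exact dvd_mul_of_dvd_left hdx _
  have hp3 : 3 ≤ p := by
    rcases Nat.lt_or_ge p 3 with h | h
    · exfalso
      have hp2 : p = 2 := le_antisymm (by omega) hp.two_le
      have hodd := hK.odd_card
      have hne : r ≠ 0 := fun h0 => by
        rw [h0, pow_zero] at hr
        exact hK.ne_bot (Subgroup.card_eq_one.mp hr)
      rw [hr, hp2] at hodd
      exact (Nat.not_even_iff_odd.mpr hodd) (Nat.even_pow.mpr ⟨even_two, hne⟩)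
    · exact h
  have hlevel : ∀ j, IsCohTI L (X.filter fun χ => dd K χ ≤ p ^ j) := by
    intro j
    induction j with
    | zero =>
      refine star hK.ti _ (fun φ hφ => hK.supp (hXsub (Finset.mem_filter.mp hφ).1)) ?_
      intro φ hφ ψ hψ
      rw [pow_zero, Finset.mem_filter] at hφ hψ
      have h1 := hK.degC_eq (hXsub hφ.1)
      have h2 := hK.degC_eq (hXsub hψ.1)
      rw [h1.1, h2.1, show dd K φ = 1 by omega, show dd K ψ = 1 by omega]
    | succ j ih =>
      have hlev : ∀ χ ∈ X, dd K χ ≤ p ^ (j + 1) → ¬ dd K χ ≤ p ^ j → dd K χ = p ^ (j + 1) := by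
        intro χ hχ h1 h2
        obtain ⟨k, hk⟩ := hpow χ hχ
        rw [hk, Nat.pow_le_pow_iff_right hp.one_lt] at h1 h2
        rw [hk, show k = j + 1 by omega]
      rcases (X.filter fun χ => dd K χ ≤ p ^ j).eq_empty_or_nonempty with hempty | hne
      · refine star hK.ti _ (fun φ hφ => hK.supp (hXsub (Finset.mem_filter.mp hφ).1)) ?_
        have key : ∀ φ ∈ X.filter (fun χ => dd K χ ≤ p ^ (j + 1)), dd K φ = p ^ (j + 1) := by
          intro φ hφ
          rw [Finset.mem_filter] at hφ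
          exact hlev φ hφ.1 hφ.2 fun h =>
            Finset.notMem_empty φ (hempty ▸ Finset.mem_filter.mpr ⟨hφ.1, h⟩)
        intro φ hφ ψ hψ
        rw [(hK.degC_eq (hXsub (Finset.mem_filter.mp hφ).1)).1,
          (hK.degC_eq (hXsub (Finset.mem_filter.mp hψ).1)).1, key φ hφ, key ψ hψ]
      · obtain ⟨φ₀, h₀, hmin⟩ := Finset.exists_min_image _ (dd K) hne
        have hsub : (X.filter fun χ => dd K χ ≤ p ^ j) ⊆ X.filter fun χ => dd K χ ≤ p ^ (j + 1) :=
          fun χ hχ => Finset.mem_filter.mpr ⟨(Finset.mem_filter.mp hχ).1,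
            (Finset.mem_filter.mp hχ).2.trans (Nat.pow_le_pow_right hp.pos (Nat.le_succ j))⟩
        have hdvd : ∀ χ ∈ X, dd K φ₀ ≤ dd K χ → degC φ₀ ∣ degC χ := by
          intro χ hχ hle
          obtain ⟨k, hk⟩ := hpow χ hχ
          obtain ⟨k₀, hk₀⟩ := hpow φ₀ (Finset.mem_filter.mp h₀).1
          rw [(hK.degC_eq (hXsub hχ)).1, (hK.degC_eq (hXsub (Finset.mem_filter.mp h₀).1)).1, hk, hk₀]
          rw [hk, hk₀, Nat.pow_le_pow_iff_right hp.one_lt] at hle
          exact mul_dvd_mul_left _ (pow_dvd_pow p hle)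
        have heq : (X.filter fun χ => dd K χ ≤ p ^ (j + 1)) =
            (X.filter fun χ => dd K χ ≤ p ^ j) ∪
              (X.filter fun χ => dd K χ ≤ p ^ (j + 1) ∧ ¬ dd K χ ≤ p ^ j) := by
          ext χ
          simp only [Finset.mem_union, Finset.mem_filter]
          constructor
          · intro h; by_cases h' : dd K χ ≤ p ^ j <;> simp [h, h']
          · rintro (h | h)
            · exact ⟨h.1, (Finset.mem_filter.mp (hsub (Finset.mem_filter.mpr h))).2⟩
            · exact ⟨h.1, h.2.1⟩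
        rw [heq]
        refine extend_many hK.ti ih (fun φ hφ => hK.supp (hXsub (Finset.mem_filter.mp hφ).1)) h₀
          (fun φ hφ => hdvd φ (Finset.mem_filter.mp hφ).1 (hmin φ hφ)) _ fun χ hχ => ?_
        obtain ⟨hχX, hχle, hχgt⟩ := Finset.mem_filter.mp hχ
        have hχd := hlev χ hχX hχle hχgt
        refine ⟨hK.supp (hXsub hχX), hdvd χ hχX ((Finset.mem_filter.mp h₀).2.trans (by omega)), ?_⟩
        have hU : dd K χ ^ 2 ≤ ∑ φ ∈ X.filter (fun χ => dd K χ ≤ p ^ j), dd K φ ^ 2 := by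
          refine Nat.le_of_dvd (Finset.sum_pos (fun φ hφ =>
            pow_pos (hK.degC_eq (hXsub (Finset.mem_filter.mp hφ).1)).2.1 2) hne) ?_
          have hT' := hsq_dvd χ hχX
          rw [hT, ← Finset.sum_filter_add_sum_filter_not X (fun χ => dd K χ ≤ p ^ j)] at hT'
          refine (Nat.dvd_add_iff_left (Finset.dvd_sum fun φ hφ => ?_)).mpr hT'
          obtain ⟨hφX, hφgt⟩ := Finset.mem_filter.mp hφ
          obtain ⟨k, hk⟩ := hpow φ hφX
          rw [hk, Nat.pow_le_pow_iff_right hp.one_lt] at hφgt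
          rw [hk, hχd]
          exact pow_dvd_pow_of_dvd (pow_dvd_pow p (by omega)) 2
        rw [hK.sum_degC_sq (fun φ hφ => hXsub (Finset.mem_filter.mp hφ).1),
          (hK.degC_eq (hXsub hχX)).1, (hK.degC_eq (hXsub (Finset.mem_filter.mp h₀).1)).1]
        have hd0 := (Finset.mem_filter.mp h₀).2
        have hd0pos := (hK.degC_eq (hXsub (Finset.mem_filter.mp h₀).1)).2.1
        have h3 : 3 * dd K φ₀ ≤ dd K χ := by
          rw [hχd, pow_succ', ]
          exact Nat.mul_le_mul hp3 hd0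
        have h2 : 2 * dd K χ * dd K φ₀ < dd K χ ^ 2 := by nlinarith
        have hepos : 0 < K.index ^ 2 := pow_pos (Nat.pos_of_ne_zero K.index_ne_zero_of_finite) 2
        calc 2 * (K.index * dd K χ) * (K.index * dd K φ₀)
            = K.index ^ 2 * (2 * dd K χ * dd K φ₀) := by ring
          _ < K.index ^ 2 * _ := Nat.mul_lt_mul_of_pos_left (h2.trans_le hU) hepos
  have hall : (X.filter fun χ => dd K χ ≤ p ^ r) = X :=
    Finset.filter_true_of_mem fun χ hχ =>
      Nat.le_of_dvd (pow_pos hp.pos r) (hr ▸ (hK.degC_eq (hXsub hχ)).2.2)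
  exact hall ▸ hlevel r

/-- The coefficient congruence used to glue. -/
theorem OddFrobTI.coeff_congruence [K.Normal] (hK : OddFrobTI L K) {Z : Subgroup L} [Z.Normal]
    (hZK : Z ≤ K) (hZ1 : Z ≠ ⊥) (hZc : ∀ z ∈ Z, ∀ k ∈ K, z * k = k * z) [DecidableEq (L → ℂ)]
    {𝒮 : Finset (L → ℂ)} (hS : 𝒮 ⊆ exOn K Z) {εS εX : ℤ} {μS μX : (L → ℂ) → G → ℂ}
    (hcS : CohData L 𝒮 εS μS) (hcX : CohData L (exOn K ⊥ \ exOn K Z) εX μX)
    {φ₀ φ₁ χ₀ : L → ℂ} (h₀ : φ₀ ∈ 𝒮) (h₁ : φ₁ ∈ 𝒮) (hne : φ₁ ≠ φ₀)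
    (hχ₀ : χ₀ ∈ exOn K ⊥ \ exOn K Z) (_hd₀ : degC φ₀ = K.index) :
    ∃ k : ℤ, classInner (indFun L (base φ₀ χ₀ (dd K χ₀))) (μS φ₀) = (dd K χ₀ : ℂ) * k := by
  classical
  set X := exOn K ⊥ \ exOn K Z with hX
  set ψ := μS φ₀ with hψ
  have hψirr : IsIrrCharacter G ψ := hcS.irr φ₀ h₀
  have hXsub : X ⊆ exOn K ⊥ := Finset.sdiff_subset
  set res : L → ℂ := fun x => ψ (x : G) with hres
  have hresc : IsCharacter L res := isCharacter_restrict hψirr.isCharacter L
  have hmemX : ∀ η : L → ℂ, η ∈ X ↔ IsIrrCharacter L η ∧ ¬ TrivOn Z η := by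
    intro η
    simp only [hX, Finset.mem_sdiff, mem_exOn]
    constructor
    · rintro ⟨⟨h1, h2, -⟩, h3⟩
      exact ⟨h1, fun h => h3 ⟨h1, h2, h⟩⟩
    · rintro ⟨h1, h2⟩
      exact ⟨⟨h1, fun h => h2 fun z hz => h z (hZK hz), trivOn_bot η⟩, fun h => h2 h.2.2⟩
  have hcoef : ∀ η : L → ℂ, IsIrrCharacter L η →
      ∃ m : ℕ, classInner res η = m ∧ classInner (indFun L η) ψ = m := by
    intro η hη
    obtain ⟨m, hm⟩ := classInner_nat hresc hη.isCharacter
    refine ⟨m, hm, ?_⟩
    rw [classInner_indFun L η hψirr.isClassFunction, ← conj_classInner, ← hres, hm, map_natCast]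
  obtain ⟨c, hc, hc'⟩ := hcoef χ₀ ((hmemX χ₀).mp hχ₀).1
  have hprop : ∀ η ∈ X, classInner res η * (degC χ₀ : ℂ) = (degC η : ℂ) * c := by
    intro η hη
    by_cases hηχ : η = χ₀
    · rw [hηχ, hc, mul_comm]
    obtain ⟨m, hm, hm'⟩ := hcoef η ((hmemX η).mp hη).1
    have hz : classInner (indFun L (comb η χ₀)) ψ = 0 := by
      rw [hcX.rel η hη χ₀ hχ₀, classInner_smul_left, classInner_sub_left, classInner_smul_left,
        classInner_smul_left]
      have hdisj : Disjoint 𝒮 X := Finset.disjoint_left.mpr fun a ha ha' =>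
        (Finset.mem_sdiff.mp ha').2 (hS ha)
      have hS' : ∀ φ ∈ 𝒮, Supp K φ := fun φ hφ => hK.supp (hS hφ)
      have hX' : ∀ φ ∈ X, Supp K φ := fun φ hφ => hK.supp (hXsub hφ)
      have e1 := hcS.image_ne hK.ti hcX hS' hX' hdisj h₀ h₁ hne hη hχ₀ (Ne.symm hηχ)
      have e2 := hcS.image_ne hK.ti hcX hS' hX' hdisj h₀ h₁ hne hχ₀ hη hηχ
      rw [classInner_irr_ne (hcX.irr η hη) hψirr (Ne.symm e1),
        classInner_irr_ne (hcX.irr χ₀ hχ₀) hψirr (Ne.symm e2)]
      ring
    rw [show comb η χ₀ = (degC χ₀ : ℂ) • η - (degC η : ℂ) • χ₀ from rfl, indFun_sub, indFun_smul,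
      indFun_smul, classInner_sub_left, classInner_smul_left, classInner_smul_left, hm', hc'] at hz
    rw [hm]
    linear_combination hz
  have hd0pos : (degC χ₀ : ℂ) ≠ 0 :=
    Nat.cast_ne_zero.mpr (degC_pos ((hmemX χ₀).mp hχ₀).1).ne'
  have hval : ∀ z ∈ Z, z ≠ 1 → ψ (z : G) = ψ 1 - (c : ℂ) * (Nat.card L : ℂ) / (degC χ₀ : ℂ) := by
    intro z hz hz1
    haveI := Fintype.ofFinite (IrrCharacter L)
    have hexp : ∀ y : L, res y = ∑ η ∈ irrFin L, classInner res η * η y := by
      intro y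
      conv_lhs => rw [classFunction_expansion (isClassFunction_of_isCharacter hresc)]
      rw [irrFin, Finset.sum_map, Finset.sum_apply]
      rfl
    have hreg : ∑ η ∈ irrFin L, η 1 * (η z - η 1) = -(Nat.card L : ℂ) := by
      have e1 := sum_degree_mul_irr (G := L) z
      have e2 := sum_degree_mul_irr (G := L) 1
      rw [if_neg hz1] at e1
      rw [if_pos rfl] at e2
      rw [irrFin, Finset.sum_map]
      simp only [Function.Embedding.coeFn_mk, mul_sub, Finset.sum_sub_distrib, e1, e2, zero_sub]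
    have hXi : X ⊆ irrFin L := fun η hη => mem_irrFin.mpr ((hmemX η).mp hη).1
    have hzero : ∀ η ∈ irrFin L, η ∉ X → η z - η 1 = 0 := fun η hη hn => by
      have : TrivOn Z η := by
        by_contra h
        exact hn ((hmemX η).mpr ⟨mem_irrFin.mp hη, h⟩)
      rw [this z hz, sub_self]
    have hdiff : res z - res 1 = ∑ η ∈ X, classInner res η * (η z - η 1) := by
      rw [hexp z, hexp 1, ← Finset.sum_sub_distrib]
      simp only [← mul_sub]
      exact (Finset.sum_subset hXi fun η hη hn => by rw [hzero η hη hn, mul_zero]).symm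
    have hX1 : ∑ η ∈ X, η 1 * (η z - η 1) = -(Nat.card L : ℂ) := by
      rw [← hreg]
      exact Finset.sum_subset hXi fun η hη hn => by rw [hzero η hη hn, mul_zero]
    have key : (res z - res 1) * (degC χ₀ : ℂ) = -((c : ℂ) * (Nat.card L : ℂ)) := by
      rw [hdiff, Finset.sum_mul, ← mul_neg, ← hX1, Finset.mul_sum]
      refine Finset.sum_congr rfl fun η hη => ?_
      rw [degC_spec ((hmemX η).mp hη).1.isCharacter]
      linear_combination (η z - (degC η : ℂ)) * hprop η hη
    simp only [hres, OneMemClass.coe_one] at key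
    field_simp
    linear_combination key
  obtain ⟨D, hD⟩ := exists_degree hψirr.isCharacter
  obtain ⟨m, hm⟩ := hK.congruence hZK hZ1 hZc hψirr
    (q := (D : ℚ) - (c : ℚ) * (Nat.card L : ℚ) / (degC χ₀ : ℚ))
    (fun z hz hz1 => by rw [hval z hz hz1, hD]; push_cast; rfl)
  push_cast at hm
  rw [hD, sub_sub_cancel, (hK.degC_eq (hXsub hχ₀)).1, ← Subgroup.card_mul_index K] at hm
  have hKne : (Nat.card K : ℂ) ≠ 0 := Nat.cast_ne_zero.mpr Nat.card_pos.ne'
  have hepos : (K.index : ℂ) ≠ 0 := Nat.cast_ne_zero.mpr K.index_ne_zero_of_finite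
  have hdpos : (dd K χ₀ : ℂ) ≠ 0 := Nat.cast_ne_zero.mpr (hK.degC_eq (hXsub hχ₀)).2.1.ne'
  have hcm : (c : ℂ) = (dd K χ₀ : ℂ) * m := by
    push_cast at hm
    field_simp at hm
    linear_combination hm
  obtain ⟨m₀, hm₀, hm₀'⟩ := hcoef φ₀ (mem_exOn.mp (hS h₀)).1
  refine ⟨m - m₀, ?_⟩
  rw [show base φ₀ χ₀ (dd K χ₀) = χ₀ - (dd K χ₀ : ℂ) • φ₀ from rfl, indFun_sub, indFun_smul,
    classInner_sub_left, classInner_smul_left, hc', hm₀', hcm]
  push_cast; ring

/-- The irreducible characters nontrivial on the kernel form a coherent set. -/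
theorem OddFrobTI.coherent [K.Normal] (hK : OddFrobTI L K) : IsCohTI L (exOn K ⊥) := by
  classical
  obtain ⟨hA, hA2⟩ := hK.linear_part
  by_cases hab : K.lowerCentralSeries 1 = ⊥
  · rwa [hab] at hA
  rcases hK.large_or_isPGroup with hbig | ⟨p, hp, hpK⟩
  · exact hK.coherent_of_large hbig
  -- the last nontrivial term of the lower central series
  obtain ⟨n, hn⟩ := K.isNilpotent_iff_lowerCentralSeries.mp hK.nil
  have hex : ∃ m, K.lowerCentralSeries (m + 1) = ⊥ :=
    ⟨n, le_bot_iff.mp (hn ▸ K.lowerCentralSeries_antitone (Nat.le_succ n))⟩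
  obtain ⟨m, hm, hmin⟩ : ∃ m, K.lowerCentralSeries (m + 1 + 1) = ⊥ ∧
      K.lowerCentralSeries (m + 1) ≠ ⊥ := by
    have hspec := Nat.find_spec hex
    have h0 : Nat.find hex ≠ 0 := fun h => hab (by rw [h] at hspec; exact hspec)
    obtain ⟨m, hm⟩ := Nat.exists_eq_succ_of_ne_zero h0
    rw [hm] at hspec
    exact ⟨m, hspec, Nat.find_min hex (by omega)⟩
  set Z := K.lowerCentralSeries (m + 1) with hZ
  haveI : Z.Normal := lcs_normal _
  haveI := lcs_normal (K := K) 1
  have hZK : Z ≤ K := lcs_le _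
  have hZd : Z ≤ K.lowerCentralSeries 1 := K.lowerCentralSeries_antitone (by omega)
  have hZc : ∀ z ∈ Z, ∀ k ∈ K, z * k = k * z := by
    intro z hz k hk
    have : ⁅z, k⁆ = 1 := by
      rw [← Subgroup.mem_bot, ← hm, Subgroup.lowerCentralSeries_succ (n := m + 1)]
      exact Subgroup.commutator_mem_commutator hz hk
    exact commutatorElement_eq_one_iff_mul_comm.mp this
  obtain ⟨hcX, hTX, hX⟩ := hK.coherent_central hp hpK hZK hmin hZc
  set A := exOn K (K.lowerCentralSeries 1) with hAdef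
  set X := exOn K ⊥ \ exOn K Z with hXdef
  have hAZ : A ⊆ exOn K Z := exOn_mono hZd
  have hXsub : X ⊆ exOn K ⊥ := Finset.sdiff_subset
  have hdisj : Disjoint A X :=
    Finset.disjoint_left.mpr fun a ha ha' => (Finset.mem_sdiff.mp ha').2 (hAZ ha)
  obtain ⟨εA, μA, hcA⟩ := hA
  obtain ⟨εX, μX, hcX⟩ := hcX
  obtain ⟨φ₀, h₀, φ₁, h₁, hne⟩ := Finset.one_lt_card.mp (by omega : 1 < A.card)
  have hd₀ : degC φ₀ = K.index := by rw [(hK.degC_eq h₀).1, hK.dd_derived h₀, mul_one]
  have hXne : X.Nonempty := by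
    by_contra hempty
    rw [Finset.not_nonempty_iff_eq_empty.mp hempty, Finset.sum_empty] at hTX
    have := (hK.odd_relIndex hZK).pos
    omega
  obtain ⟨χ₀, hχ₀, hmin₀⟩ := Finset.exists_min_image X (dd K) hXne
  have hdeg₀ : degC χ₀ = dd K χ₀ * degC φ₀ := by rw [(hK.degC_eq (hXsub hχ₀)).1, hd₀, mul_comm]
  have hdivX : ∀ χ ∈ X, degC χ₀ ∣ degC χ := by
    intro χ hχ
    obtain ⟨k, hk⟩ := (hX χ hχ).2
    obtain ⟨k₀, hk₀⟩ := (hX χ₀ hχ₀).2
    have := hmin₀ χ hχ
    rw [hk, hk₀, Nat.pow_le_pow_iff_right hp.one_lt] at this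
    rw [(hK.degC_eq (hXsub hχ)).1, (hK.degC_eq (hXsub hχ₀)).1, hk, hk₀]
    exact mul_dvd_mul_left _ (pow_dvd_pow p this)
  have hAsum : ∑ φ ∈ A, degC φ ^ 2 = K.index ^ 2 * A.card := by
    rw [hK.sum_degC_sq (fun φ hφ => exOn_subset_bot hφ),
      Finset.sum_congr rfl fun χ hχ => by rw [hK.dd_derived hχ, one_pow], ← Finset.card_eq_sum_ones]
  have hglue : IsCohTI L (A ∪ X) := by
    refine hcA.glue hK.ti hcX (fun φ hφ => hK.supp hφ) (fun φ hφ => hK.supp (hXsub hφ)) hdisj h₀ hχ₀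
      (fun φ hφ => ⟨dd K φ, by rw [hd₀, (hK.degC_eq hφ).1]⟩) hdivX hdeg₀ ?_ ?_
      (hK.coeff_congruence hZK hmin hZc hAZ hcA hcX h₀ h₁ (Ne.symm hne) hχ₀ hd₀)
    · rw [hAsum, hd₀]
      nlinarith
    · rw [hK.sum_degC_sq hXsub, (hK.degC_eq (hXsub hχ₀)).1]
      calc 2 * (K.index * dd K χ₀) ^ 2 = K.index ^ 2 * (2 * dd K χ₀ ^ 2) := by ring
        _ ≤ _ := Nat.mul_le_mul_left _ (le_trans (by linarith [(hX χ₀ hχ₀).1]) hTX)
  have hfinal : exOn K ⊥ = (A ∪ X) ∪ exOn K Z := by
    ext χ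
    simp only [Finset.mem_union, hXdef, Finset.mem_sdiff]
    constructor
    · intro h; by_cases h' : χ ∈ exOn K Z
      · exact Or.inr h'
      · exact Or.inl (Or.inr ⟨h, h'⟩)
    · rintro ((h | h) | h)
      · exact exOn_subset_bot h
      · exact h.1
      · exact exOn_subset_bot h
  rw [hfinal]
  refine extend_many hK.ti hglue ?_ (Finset.mem_union_left _ h₀) ?_ _ fun χ hχ =>
    ⟨hK.supp hχ, ⟨dd K χ, by rw [hd₀, (hK.degC_eq hχ).1]⟩, ?_⟩
  · intro φ hφ
    rcases Finset.mem_union.mp hφ with h | h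
    · exact hK.supp h
    · exact hK.supp (hXsub h)
  · intro φ hφ
    rcases Finset.mem_union.mp hφ with h | h
    · exact ⟨dd K φ, by rw [hd₀, (hK.degC_eq h).1]⟩
    · exact ⟨dd K φ, by rw [hd₀, (hK.degC_eq (hXsub h)).1]⟩
  · rw [Finset.sum_union hdisj, hAsum, hK.sum_degC_sq hXsub, hd₀, (hK.degC_eq hχ).1]
    have hsumZ := hK.sum_dd Z hZK
    have hle : dd K χ ^ 2 ≤ ∑ η ∈ exOn K Z, dd K η ^ 2 :=
      Finset.single_le_sum (f := fun η => dd K η ^ 2) (fun _ _ => Nat.zero_le _) hχ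
    have hd1 : dd K χ ≤ dd K χ ^ 2 := Nat.le_self_pow (by norm_num) _
    have hTZ : ∑ η ∈ exOn K Z, dd K η ^ 2 ≤ Z.relIndex K := by
      rw [← hsumZ]
      nlinarith [hK.one_lt_index]
    set TX := ∑ η ∈ X, dd K η ^ 2
    have h2 : 2 * dd K χ < A.card + TX := by omega
    calc 2 * (K.index * dd K χ) * K.index = K.index ^ 2 * (2 * dd K χ) := by ring
      _ < K.index ^ 2 * (A.card + TX) :=
          Nat.mul_lt_mul_of_pos_left h2 (pow_pos (Nat.pos_of_ne_zero K.index_ne_zero_of_finite) 2)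
      _ = _ := by ring

end Cfsg.Lib.Characters.Coherence
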