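import Cfsg.Agent.Lib.Characters.Coherence.Main

/-!
# Frobenius groups as odd TI pairs; coherence in the sense of `Cfsg.IsCoherent`
-/

set_option linter.unusedSectionVars false
set_option linter.style.haveILetI false

open scoped ComplexConjugate

namespace Cfsg.Lib.Characters.Coherence

variable {G : Type*} [Group G]

theorem tiPair_of_isTISubset {H L : Subgroup G} (_hHL : H ≤ L)
    (hTI : Cfsg.IsTISubset (H : Set G)) (hN : Subgroup.normalizer (H : Set G) = L) :
    TIPair L (H.subgroupOf L) := by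
  intro g hg t ht s hs heq
  rw [← hN] at hg
  rw [Subgroup.mem_subgroupOf] at ht hs
  exact hTI g hg _ ht (heq ▸ hs)

theorem normal_subgroupOf {H L : Subgroup G} (h : ∀ x ∈ L, ∀ y ∈ H, x * y * x⁻¹ ∈ H) :
    (H.subgroupOf L).Normal :=
  ⟨fun y hy x => by
    rw [Subgroup.mem_subgroupOf] at hy ⊢
    simpa using h x x.2 y hy⟩

/-- A fixed point free complement forces centralisers of kernel elements into the kernel. -/
theorem centralizer_le_of_fpf {H L W : Subgroup G} [Finite H] (_hHL : H ≤ L) (hWL : W ≤ L)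
    (hn : ∀ x ∈ L, ∀ h ∈ H, x * h * x⁻¹ ∈ H) (hsup : H ⊔ W = L)
    (hfpf : ∀ w ∈ W, w ≠ 1 → ∀ h ∈ H, w * h = h * w → h = 1) :
    ∀ h ∈ H, h ≠ 1 → L ⊓ Subgroup.centralizer ({h} : Set G) ≤ H := by
  intro h hh hh1 x hx
  obtain ⟨hxL, hxc⟩ := Subgroup.mem_inf.mp hx
  have hcomm : x * h = h * x := Subgroup.mem_centralizer_singleton_iff.mp hxc
  obtain ⟨k, hk, w, hw, rfl⟩ : ∃ k ∈ H, ∃ w ∈ W, x = k * w := by
    rw [← hsup] at hxL
    have hWN : W ≤ Subgroup.normalizer (H : Set G) := fun w hw => by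
      rw [Subgroup.mem_normalizer_iff]
      intro y
      refine ⟨fun hy => hn w (hWL hw) y hy, fun hy => ?_⟩
      have := hn w⁻¹ (L.inv_mem (hWL hw)) _ hy
      simpa [mul_assoc] using this
    rw [← SetLike.mem_coe, Subgroup.coe_mul_of_right_le_normalizer_left H W hWN,
      Set.mem_mul] at hxL
    obtain ⟨k, hk, w, hw, rfl⟩ := hxL
    exact ⟨k, hk, w, hw, rfl⟩
  by_cases hw1 : w = 1
  · simpa [hw1] using hk
  exfalso
  -- `k * w` is conjugate to `w` by an element of `H`
  let f : H → H := fun y => ⟨(y : G) * (w * (y : G)⁻¹ * w⁻¹),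
    H.mul_mem y.2 (hn w (hWL hw) _ (H.inv_mem y.2))⟩
  have hinj : Function.Injective f := by
    intro a b hab
    have hab' : (a : G) * (w * (a : G)⁻¹ * w⁻¹) = (b : G) * (w * (b : G)⁻¹ * w⁻¹) :=
      congrArg Subtype.val hab
    have h1 : w * ((b : G)⁻¹ * a) = ((b : G)⁻¹ * a) * w := by
      calc w * ((b : G)⁻¹ * a) = (b : G)⁻¹ * ((b : G) * (w * (b : G)⁻¹ * w⁻¹)) * w * a := by group
        _ = (b : G)⁻¹ * ((a : G) * (w * (a : G)⁻¹ * w⁻¹)) * w * a := by rw [hab']
        _ = _ := by group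
    have h2 := hfpf w hw hw1 _ (H.mul_mem (H.inv_mem b.2) a.2) h1
    exact Subtype.ext (inv_mul_eq_one.mp h2).symm
  obtain ⟨y, hy⟩ := Finite.surjective_of_injective hinj ⟨k, hk⟩
  have hy' : (y : G) * (w * (y : G)⁻¹ * w⁻¹) = k := congrArg Subtype.val hy
  rw [← hy'] at hcomm
  have h2 : w * ((y : G)⁻¹ * h * y) = ((y : G)⁻¹ * h * y) * w := by
    calc w * ((y : G)⁻¹ * h * y)
        = (y : G)⁻¹ * ((y : G) * (w * (y : G)⁻¹ * w⁻¹) * w * h) * y := by group
      _ = (y : G)⁻¹ * (h * ((y : G) * (w * (y : G)⁻¹ * w⁻¹) * w)) * y := by rw [hcomm]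
      _ = _ := by group
  have h3 := hfpf w hw hw1 _ (H.mul_mem (H.mul_mem (H.inv_mem y.2) hh) y.2) h2
  exact hh1 (by rw [show h = (y : G) * ((y : G)⁻¹ * h * y) * (y : G)⁻¹ by group, h3]; group)

/-- Construction of the setting from a Frobenius subgroup. -/
theorem OddFrobTI.of_subgroups {H L : Subgroup G} (hHL : H ≤ L) (hH1 : H ≠ ⊥) (hne : H ≠ L)
    (hnil : Group.IsNilpotent H) (hodd : Odd (Nat.card L))
    (hcent : ∀ h ∈ H, h ≠ 1 → L ⊓ Subgroup.centralizer ({h} : Set G) ≤ H)
    (hTI : Cfsg.IsTISubset (H : Set G)) (hN : Subgroup.normalizer (H : Set G) = L) :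
    OddFrobTI L (H.subgroupOf L) where
  ti := tiPair_of_isTISubset hHL hTI hN
  cent k hk hk1 x hx := by
    rw [Subgroup.mem_centralizer_singleton_iff] at hx
    rw [Subgroup.mem_subgroupOf] at hk ⊢
    exact hcent _ hk (fun h => hk1 (Subtype.ext h)) (Subgroup.mem_inf.mpr
      ⟨x.2, Subgroup.mem_centralizer_singleton_iff.mpr (congrArg Subtype.val hx)⟩)
  odd := hodd
  nil := Group.nilpotent_of_mulEquiv (Subgroup.subgroupOfEquivOfLe hHL).symm
  ne_bot h := hH1 (by
    rw [← Subgroup.map_subgroupOf_eq_of_le hHL, h, Subgroup.map_bot])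
  ne_top h := hne (le_antisymm hHL (Subgroup.subgroupOf_eq_top.mp h))

variable [Fintype G] {L : Subgroup G} [Fintype L] {K : Subgroup L}

/-- The irreducible characters nontrivial on the kernel are the nonprincipal induced ones. -/
theorem OddFrobTI.inducedIrrAbove_eq [K.Normal] (hK : OddFrobTI L K) :
    Cfsg.inducedIrrAbove K ⊥ = (exOn K ⊥ : Set (L → ℂ)) := by
  classical
  haveI := Fintype.ofFinite K
  ext χ
  simp only [Cfsg.inducedIrrAbove, Set.mem_ofPred_eq, Finset.mem_coe]
  constructor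
  · rintro ⟨θ, hθ, hne, -, rfl⟩
    have hind : IsIrrCharacter L (indFun K θ) :=
      (isIrrCharacter_indFun_iff hθ).mpr (inertia_eq_of_centralizer_le K hK.cent hθ hne)
    refine mem_exOn.mpr ⟨hind, fun htriv => ?_, trivOn_bot _⟩
    have hinner : classInner (fun n : K => indFun K θ n) θ ≠ 0 := by
      rw [← conj_classInner, ← classInner_indFun K θ hind.isClassFunction,
        classInner_irr_self hind, map_one]
      exact one_ne_zero
    have hres := isCharacter_restrict hind.isCharacter K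
    have hconst : ∀ k : K, θ k = θ 1 := fun k =>
      char_ker_constituent hres hθ hinner (by simpa using htriv k k.2)
    have h1 := classInner_irr_ne hθ isIrrCharacter_one hne
    rw [classInner, Finset.sum_congr rfl fun k _ => by rw [hconst k]] at h1
    simp at h1
    exact hθ.one_ne_zero h1
  · intro hχ
    obtain ⟨θ, hθ, hne, h, -⟩ := hK.exists_ind hχ
    exact ⟨θ, hθ, hne, fun a ha => by
      rw [Subgroup.mem_bot] at ha
      rw [show a = 1 from Subtype.ext ha], h⟩

/-- Coherence in the sense of `Cfsg.IsCoherent`. -/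
theorem OddFrobTI.isCoherent [K.Normal] (hK : OddFrobTI L K) :
    Cfsg.IsCoherent (exOn K ⊥ : Set (L → ℂ)) {1}ᶜ (fun α : L → ℂ => Cfsg.indFun L α) := by
  classical
  set S := exOn K ⊥ with hS
  obtain ⟨ε, μ, hc⟩ := hK.coherent
  have hirr : ∀ φ ∈ S, IsIrrCharacter L φ := fun φ hφ => (mem_exOn.mp hφ).1
  obtain ⟨φ₀, h₀, φ₁, h₁, hne⟩ : ∃ a ∈ S, ∃ b ∈ S, a ≠ b := by
    obtain ⟨-, hA2⟩ := hK.linear_part
    obtain ⟨a, ha, b, hb, hab⟩ := Finset.one_lt_card.mp
      (by omega : 1 < (exOn K (K.lowerCentralSeries 1)).card)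
    exact ⟨a, exOn_subset_bot ha, b, exOn_subset_bot hb, hab⟩
  have hexp : ∀ α ∈ Cfsg.zspan (S : Set (L → ℂ)),
      (∀ φ ∈ S, ∃ c : ℤ, classInner α φ = c) ∧ α = ∑ φ ∈ S, classInner α φ • φ := by
    intro α hα
    refine Submodule.span_induction ?_ ?_ ?_ ?_ hα
    · intro x hx
      refine ⟨fun φ hφ => classInner_int (isGeneralized_of_isCharacter (hirr x hx).isCharacter)
        (isGeneralized_of_isCharacter (hirr φ hφ).isCharacter), ?_⟩
      rw [Finset.sum_eq_single_of_mem x hx fun φ hφ hφx => by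
        rw [classInner_irr_ne (hirr x hx) (hirr φ hφ) (Ne.symm hφx), zero_smul],
        classInner_irr_self (hirr x hx), one_smul]
    · exact ⟨fun φ _ => ⟨0, by simp [classInner_zero_left]⟩, by simp [classInner_zero_left]⟩
    · rintro x y - - ⟨hx, hx'⟩ ⟨hy, hy'⟩
      refine ⟨fun φ hφ => ?_, ?_⟩
      · obtain ⟨a, ha⟩ := hx φ hφ
        obtain ⟨b, hb⟩ := hy φ hφ
        exact ⟨a + b, by rw [classInner_add_left, ha, hb, Int.cast_add]⟩
      · simp only [classInner_add_left, add_smul, Finset.sum_add_distrib]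
        rw [← hx', ← hy']
    · rintro n x - ⟨hx, hx'⟩
      rw [show n • x = ((n : ℂ) • x) from (Int.cast_smul_eq_zsmul ℂ n x).symm]
      refine ⟨fun φ hφ => ?_, ?_⟩
      · obtain ⟨a, ha⟩ := hx φ hφ
        exact ⟨n * a, by rw [classInner_smul_left, ha, Int.cast_mul]⟩
      · simp only [classInner_smul_left, ← smul_smul, ← Finset.smul_sum]
        rw [← hx']
  constructor
  · refine ⟨comb φ₀ φ₁, ⟨?_, fun x hx => ?_⟩, fun h => ?_⟩
    · refine Submodule.sub_mem _ ?_ ?_
      · rw [Nat.cast_smul_eq_nsmul]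
        exact nsmul_mem (Submodule.subset_span h₀) _
      · rw [Nat.cast_smul_eq_nsmul]
        exact nsmul_mem (Submodule.subset_span h₁) _
    · simp only [Set.mem_compl_iff, Set.mem_singleton_iff, not_not] at hx
      subst hx
      simp [comb, degC_spec (hirr _ h₀).isCharacter, degC_spec (hirr _ h₁).isCharacter, mul_comm]
    · have h2 := congrArg (fun f => classInner f φ₀) h
      simp [comb, classInner_sub_left, classInner_smul_left, classInner_zero_left,
        classInner_irr_self (hirr _ h₀), classInner_irr_ne (hirr _ h₁) (hirr _ h₀) (Ne.symm hne)] at h2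
      exact (degC_pos (hirr _ h₁)).ne' h2
  refine ⟨fun α => (ε : ℂ) • ∑ φ ∈ S, classInner α φ • μ φ, ⟨?_, ?_, ?_, ?_⟩, ?_⟩
  · intro α _ β _
    simp only [classInner_add_left, add_smul, Finset.sum_add_distrib, smul_add]
  · intro α _ n
    rw [show n • α = ((n : ℂ) • α) from (Int.cast_smul_eq_zsmul ℂ n α).symm,
      ← Int.cast_smul_eq_zsmul ℂ n]
    simp only [classInner_smul_left, ← smul_smul, ← Finset.smul_sum]
    rw [smul_comm]
  · intro α hα β hβ
    conv_rhs => rw [(hexp β hβ).2, classInner_sum_right]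
    rw [classInner_smul_left, classInner_smul_right, conj_intCast', ← mul_assoc, sign_sq hc.sign,
      one_mul, classInner_sum_left]
    refine Finset.sum_congr rfl fun φ hφ => ?_
    rw [classInner_smul_left, classInner_sum_right, classInner_smul_right,
      Finset.sum_eq_single_of_mem φ hφ fun ψ hψ hψφ => ?_]
    · rw [classInner_smul_right, classInner_irr_self (hc.irr φ hφ)]; ring
    · rw [classInner_smul_right,
        classInner_irr_ne (hc.irr φ hφ) (hc.irr ψ hψ) fun h => hψφ (hc.inj hψ hφ h.symm), mul_zero]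
  · intro α hα
    refine isGeneralized_zsmul (Finset.sum_induction (fun φ => classInner α φ • μ φ) (IsGeneralizedCharacter G)
      (fun _ _ => isGeneralized_add) (isGeneralized_of_isCharacter isCharacter_zero) fun φ hφ => ?_) ε
    obtain ⟨c, hc'⟩ := (hexp α hα).1 φ hφ
    rw [hc']
    exact isGeneralized_zsmul (isGeneralized_of_isCharacter (hc.irr φ hφ).isCharacter) c
  · rintro α ⟨hα, hα1⟩
    have hd0 : (degC φ₀ : ℂ) ≠ 0 := Nat.cast_ne_zero.mpr (degC_pos (hirr _ h₀)).ne'
    have hsum : ∑ φ ∈ S, classInner α φ * (degC φ : ℂ) = 0 := by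
      have h := hα1 1 (by simp)
      rw [(hexp α hα).2, Finset.sum_apply] at h
      rw [← h]
      exact Finset.sum_congr rfl fun φ hφ => by
        rw [Pi.smul_apply, smul_eq_mul, degC_spec (hirr φ hφ).isCharacter]
    have hcomb : (degC φ₀ : ℂ) • α = ∑ φ ∈ S, classInner α φ • comb φ φ₀ := by
      conv_lhs => rw [(hexp α hα).2]
      simp only [comb, smul_sub, Finset.sum_sub_distrib, Finset.smul_sum, smul_smul,
        ← Finset.sum_smul, hsum, zero_smul, sub_zero]
      exact Finset.sum_congr rfl fun φ _ => by rw [mul_comm]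
    refine smul_right_injective (G → ℂ) hd0 ?_
    simp only
    rw [← indFun_smul, hcomb, indFun_sum]
    symm
    rw [Finset.sum_congr rfl fun φ hφ => by rw [indFun_smul, hc.rel φ hφ φ₀ h₀]]
    simp only [smul_sub, Finset.sum_sub_distrib, smul_smul, Finset.smul_sum]
    rw [show ∑ φ ∈ S, (classInner α φ * ((ε : ℂ) * (degC φ : ℂ))) • μ φ₀ = 0 by
      rw [← Finset.sum_smul, show ∑ φ ∈ S, classInner α φ * ((ε : ℂ) * (degC φ : ℂ)) =
        (ε : ℂ) * ∑ φ ∈ S, classInner α φ * (degC φ : ℂ) by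
          rw [Finset.mul_sum]; exact Finset.sum_congr rfl fun φ _ => by ring,
        hsum, mul_zero, zero_smul], sub_zero]
    exact Finset.sum_congr rfl fun φ _ => by congr 1; ring

end Cfsg.Lib.Characters.Coherence
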