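import Cfsg.Agent.Lib.Characters.Coherence.Setting
import Cfsg.Agent.Lib.Characters.Permutation

/-!
# Values of characters on an odd Frobenius TI kernel
-/

set_option linter.unusedSectionVars false
set_option linter.style.haveILetI false

open scoped ComplexConjugate

namespace Cfsg.Lib.Characters.Coherence

variable {G : Type*} [Group G] [Fintype G] {L : Subgroup G} [Fintype L] {K : Subgroup L}

/-- Orthogonal combinations of two pairs of irreducible characters have no common leading member. -/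
theorem ne_of_comb_orth {a a' b b' : G → ℂ} (ha : IsIrrCharacter G a) (ha' : IsIrrCharacter G a')
    (hb : IsIrrCharacter G b) (hb' : IsIrrCharacter G b') (haa : a ≠ a') (hbb : b ≠ b')
    {p p' q q' : ℕ} (hp' : 0 < p') (hq' : 0 < q')
    (h : classInner ((p' : ℂ) • a - (p : ℂ) • a') ((q' : ℂ) • b - (q : ℂ) • b') = 0) : a ≠ b := by
  classical
  intro heq
  simp only [classInner_sub_left, classInner_sub_right, classInner_smul_left, classInner_smul_right,
    map_natCast, classInner_irr ha hb, classInner_irr ha hb', classInner_irr ha' hb,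
    classInner_irr ha' hb', if_pos heq] at h
  rw [if_neg (heq ▸ hbb : a ≠ b'), if_neg (heq ▸ Ne.symm haa : a' ≠ b)] at h
  split_ifs at h
  · have h3 : ((p' * q' + p * q : ℕ) : ℂ) = 0 := by push_cast; linear_combination h
    rw [Nat.cast_eq_zero] at h3
    have := Nat.mul_pos hp' hq'
    omega
  · have h3 : ((p' * q' : ℕ) : ℂ) = 0 := by push_cast; linear_combination h
    rw [Nat.cast_eq_zero] at h3
    have := Nat.mul_pos hp' hq'
    omega

/-- An induced function vanishing off `K` vanishes off the conjugates of `K`. -/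
theorem indFun_eq_zero_of_not_conj {f : L → ℂ} (hf : ∀ x, x ∉ K → f x = 0) {g : G}
    (hg : ∀ (k : L), k ∈ K → ¬ IsConj (k : G) g) : indFun L f g = 0 := by
  classical
  rw [indFun]
  refine mul_eq_zero_of_right _ (Finset.sum_eq_zero fun x _ => ?_)
  by_cases hx : x⁻¹ * g * x ∈ L
  · rw [extendByZero_mem _ hx]
    refine hf _ fun hk => hg _ hk (isConj_iff.mpr ⟨x, ?_⟩)
    simp [mul_assoc]
  · exact extendByZero_not_mem _ hx

theorem OddFrobTI.sum_dd_mul [K.Normal] (hK : OddFrobTI L K) {h : L} (hh : h ∈ K) (h1 : h ≠ 1) :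
    ∑ χ ∈ exOn K ⊥, (dd K χ : ℂ) * χ h = -1 := by
  classical
  haveI := Fintype.ofFinite (IrrCharacter L)
  have e1 := sum_degree_mul_irr (G := L) h
  rw [if_neg h1] at e1
  have hall : ∑ χ ∈ irrFin L, χ 1 * χ h = 0 := by
    rw [irrFin, Finset.sum_map]; simpa using e1
  rw [← Finset.sum_filter_add_sum_filter_not _ (TrivOn K)] at hall
  have hfil : (irrFin L).filter (fun χ => ¬ TrivOn K χ) = exOn K ⊥ := by
    ext χ
    simp only [Finset.mem_filter, mem_irrFin, mem_exOn]
    exact ⟨fun h => ⟨h.1, h.2, trivOn_bot χ⟩, fun h => ⟨h.1, h.2.1⟩⟩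
  have htriv : ∑ χ ∈ (irrFin L).filter (TrivOn K), χ 1 * χ h = (K.index : ℂ) := by
    rw [← sum_sq_trivOn (L := L) K, Nat.cast_sum]
    refine Finset.sum_congr rfl fun χ hχ => ?_
    obtain ⟨hi, ht⟩ := Finset.mem_filter.mp hχ
    rw [ht h hh, degC_spec (mem_irrFin.mp hi).isCharacter, Nat.cast_pow, sq]
  have hex : ∑ χ ∈ exOn K ⊥, χ 1 * χ h = (K.index : ℂ) * ∑ χ ∈ exOn K ⊥, (dd K χ : ℂ) * χ h := by
    rw [Finset.mul_sum]
    refine Finset.sum_congr rfl fun χ hχ => ?_
    rw [degC_spec (mem_exOn.mp hχ).1.isCharacter, (hK.degC_eq hχ).1, Nat.cast_mul, mul_assoc]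
  rw [hfil, htriv, hex] at hall
  refine mul_left_cancel₀ (Nat.cast_ne_zero.mpr K.index_ne_zero_of_finite : (K.index : ℂ) ≠ 0) ?_
  linear_combination hall

theorem OddFrobTI.sum_norm_sq [K.Normal] (hK : OddFrobTI L K) {h : L} (hh : h ∈ K) :
    ∑ χ ∈ exOn K ⊥, χ h * conj (χ h) =
      (Nat.card (Subgroup.centralizer ({h} : Set L)) : ℂ) - (K.index : ℂ) := by
  classical
  haveI := Fintype.ofFinite (IrrCharacter L)
  have e1 := column_orthogonality (G := L) h h
  rw [if_pos (IsConj.refl h)] at e1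
  have hall : ∑ χ ∈ irrFin L, χ h * conj (χ h) =
      (Nat.card (Subgroup.centralizer ({h} : Set L)) : ℂ) := by
    rw [irrFin, Finset.sum_map]; simpa using e1
  rw [← Finset.sum_filter_add_sum_filter_not _ (TrivOn K)] at hall
  have hfil : (irrFin L).filter (fun χ => ¬ TrivOn K χ) = exOn K ⊥ := by
    ext χ
    simp only [Finset.mem_filter, mem_irrFin, mem_exOn]
    exact ⟨fun h => ⟨h.1, h.2, trivOn_bot χ⟩, fun h => ⟨h.1, h.2.1⟩⟩
  have htriv : ∑ χ ∈ (irrFin L).filter (TrivOn K), χ h * conj (χ h) = (K.index : ℂ) := by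
    rw [← sum_sq_trivOn (L := L) K, Nat.cast_sum]
    refine Finset.sum_congr rfl fun χ hχ => ?_
    obtain ⟨hi, ht⟩ := Finset.mem_filter.mp hχ
    rw [ht h hh, degC_spec (mem_irrFin.mp hi).isCharacter, map_natCast, Nat.cast_pow, sq]
  rw [hfil, htriv] at hall
  linear_combination hall

theorem OddFrobTI.sum_dd_sq [K.Normal] (hK : OddFrobTI L K) :
    K.index * ∑ χ ∈ exOn K ⊥, dd K χ ^ 2 + 1 = Nat.card K := by
  rw [hK.sum_dd ⊥ bot_le, Subgroup.relIndex_bot_left]

theorem OddFrobTI.exists_linear [K.Normal] (hK : OddFrobTI L K) :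
    ∃ φ ∈ exOn K ⊥, dd K φ = 1 ∧ ∃ φ' ∈ exOn K ⊥, φ' ≠ φ := by
  obtain ⟨-, hA2⟩ := hK.linear_part
  obtain ⟨a, ha, b, hb, hab⟩ := Finset.one_lt_card.mp
    (by omega : 1 < (exOn K (K.lowerCentralSeries 1)).card)
  exact ⟨a, exOn_subset_bot ha, hK.dd_derived ha, b, exOn_subset_bot hb, Ne.symm hab⟩

theorem OddFrobTI.exists_ne [K.Normal] (hK : OddFrobTI L K) {φ : L → ℂ} :
    ∃ φ' ∈ exOn K ⊥, φ' ≠ φ := by
  obtain ⟨a, ha, -, b, hb, hab⟩ := hK.exists_linear
  by_cases h : a = φ
  · exact ⟨b, hb, h ▸ hab⟩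
  · exact ⟨a, ha, h⟩

variable {ε : ℤ} {μ : (L → ℂ) → G → ℂ}

/-- On the kernel an exceptional character is a signed copy of its original plus a constant. -/
theorem OddFrobTI.exists_shift [K.Normal] (hK : OddFrobTI L K) (hc : CohData L (exOn K ⊥) ε μ) :
    ∃ a : ℤ, ∀ φ ∈ exOn K ⊥, ∀ h ∈ K, h ≠ 1 →
      μ φ (h : G) = (ε : ℂ) * φ h + (dd K φ : ℂ) * a := by
  classical
  obtain ⟨φ₀, h₀, hd₀, -⟩ := hK.exists_linear
  have hsub : ∀ φ ∈ exOn K ⊥, ∀ h ∈ K, h ≠ 1 →
      μ φ (h : G) - (ε : ℂ) * φ h = (dd K φ : ℂ) * (μ φ₀ (h : G) - (ε : ℂ) * φ₀ h) := by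
    intro φ hφ h hh h1
    have hn : degC φ = dd K φ * degC φ₀ := by
      rw [(hK.degC_eq hφ).1, (hK.degC_eq h₀).1, hd₀, mul_one, mul_comm]
    have e1 := congrFun (hc.rel_base h₀ hφ (mem_exOn.mp h₀).1 hn) (h : G)
    have e2 : indFun L (base φ₀ φ (dd K φ)) (h : G) = base φ₀ φ (dd K φ) h := by
      refine indFun_eq_of_ti (T := Subtype.val '' (K : Set L)) ?_ ?_ ?_ h ⟨h, hh, rfl⟩ h1
      · rintro g hg t ⟨t', ht', rfl⟩ ⟨s, hs, hs'⟩
        exact hK.ti g hg t' ht' s hs hs'.symm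
      · exact isGeneralized_isClassFunction
          (base_gen (mem_exOn.mp h₀).1.isCharacter (mem_exOn.mp hφ).1.isCharacter)
      · exact fun x hx => base_van (hK.supp h₀) (hK.supp hφ) x fun h' => hx ⟨x, h', rfl⟩
    rw [e2] at e1
    simp only [base, Pi.sub_apply, Pi.smul_apply, smul_eq_mul] at e1
    linear_combination (-(ε : ℂ)) * e1 + (-(μ φ (h : G) - (dd K φ : ℂ) * μ φ₀ (h : G))) * sign_sq hc.sign
  -- the common value is an integer
  set res : L → ℂ := fun x => μ φ₀ (x : G) with hres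
  have hψ := hc.irr φ₀ h₀
  have hresc : IsCharacter L res := isCharacter_restrict hψ.isCharacter L
  haveI := Fintype.ofFinite (IrrCharacter L)
  have hcoef : ∀ η : L → ℂ, IsIrrCharacter L η →
      ∃ m : ℕ, classInner res η = m ∧ classInner (indFun L η) (μ φ₀) = m := by
    intro η hη
    obtain ⟨m, hm⟩ := classInner_nat hresc hη.isCharacter
    refine ⟨m, hm, ?_⟩
    rw [classInner_indFun L η hψ.isClassFunction, ← conj_classInner, ← hres, hm, map_natCast]
  choose! m hm hm' using hcoef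
  have hprop : ∀ η ∈ exOn K ⊥, (m η : ℂ) - (dd K η : ℂ) * m φ₀ =
      (ε : ℂ) * ((if η = φ₀ then 1 else 0) - (dd K η : ℂ)) := by
    intro η hη
    have hn : degC η = dd K η * degC φ₀ := by
      rw [(hK.degC_eq hη).1, (hK.degC_eq h₀).1, hd₀, mul_one, mul_comm]
    have e1 := congrArg (fun f => classInner f (μ φ₀))
      (hc.rel_base h₀ hη (mem_exOn.mp h₀).1 hn)
    rw [show base φ₀ η (dd K η) = η - (dd K η : ℂ) • φ₀ from rfl] at e1
    simp only [indFun_sub, indFun_smul, classInner_sub_left, classInner_smul_left,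
      hm' _ (mem_exOn.mp hη).1, hm' _ (mem_exOn.mp h₀).1, classInner_irr_self hψ,
      classInner_irr (hc.irr η hη) hψ] at e1
    have hiff : (μ η = μ φ₀) ↔ η = φ₀ :=
      ⟨fun h => hc.inj hη h₀ h, fun h => by rw [h]⟩
    simp only [hiff] at e1
    rw [e1, mul_one]
  refine ⟨-(((m φ₀ : ℤ) - ε)) +
      ∑ η ∈ (irrFin L).filter (TrivOn K), (m η : ℤ) * degC η, fun φ hφ h hh h1 => ?_⟩
  have hval : res h = (ε : ℂ) * φ₀ h + (((-(((m φ₀ : ℤ) - ε)) +
      ∑ η ∈ (irrFin L).filter (TrivOn K), (m η : ℤ) * degC η) : ℤ) : ℂ) := by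
    have hexp : res h = ∑ η ∈ irrFin L, classInner res η * η h := by
      conv_lhs => rw [classFunction_expansion (isClassFunction_of_isCharacter hresc)]
      rw [irrFin, Finset.sum_map, Finset.sum_apply]
      rfl
    rw [hexp, ← Finset.sum_filter_add_sum_filter_not _ (TrivOn K)]
    have hfil : (irrFin L).filter (fun χ => ¬ TrivOn K χ) = exOn K ⊥ := by
      ext χ
      simp only [Finset.mem_filter, mem_irrFin, mem_exOn]
      exact ⟨fun h => ⟨h.1, h.2, trivOn_bot χ⟩, fun h => ⟨h.1, h.2.1⟩⟩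
    have e2 : ∑ η ∈ (irrFin L).filter (TrivOn K), classInner res η * η h =
        ∑ η ∈ (irrFin L).filter (TrivOn K), (m η : ℂ) * (degC η : ℂ) := by
      refine Finset.sum_congr rfl fun η hη => ?_
      obtain ⟨hi, ht⟩ := Finset.mem_filter.mp hη
      rw [hm _ (mem_irrFin.mp hi), ht h hh, degC_spec (mem_irrFin.mp hi).isCharacter]
    have e3 : ∑ η ∈ exOn K ⊥, classInner res η * η h =
        (ε : ℂ) * φ₀ h - ((m φ₀ : ℂ) - ε) := by
      rw [Finset.sum_congr rfl fun η hη => show classInner res η * η h =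
        (ε : ℂ) * (if η = φ₀ then η h else 0) + ((m φ₀ : ℂ) - ε) * ((dd K η : ℂ) * η h) by
          rw [hm _ (mem_exOn.mp hη).1]
          have := hprop η hη
          split_ifs at this ⊢ with hh'
          · linear_combination η h * this
          · linear_combination η h * this,
        Finset.sum_add_distrib, ← Finset.mul_sum, ← Finset.mul_sum, Finset.sum_ite_eq',
        if_pos h₀, hK.sum_dd_mul hh h1]
      ring
    rw [hfil, e2, e3]
    push_cast
    ring
  have h4 := hsub φ hφ h hh h1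
  simp only [hres] at hval
  rw [hval] at h4
  linear_combination h4

/-- A character that is not exceptional is a rational integer constant on the kernel. -/
theorem OddFrobTI.exists_const [K.Normal] (hK : OddFrobTI L K) (hc : CohData L (exOn K ⊥) ε μ)
    {ψ : G → ℂ} (hψ : IsIrrCharacter G ψ) (hnot : ∀ φ ∈ exOn K ⊥, μ φ ≠ ψ) :
    ∃ c : ℤ, ∀ h ∈ K, h ≠ 1 → ψ ((h : L) : G) = c := by
  classical
  obtain ⟨φ₀, h₀, hd₀, -⟩ := hK.exists_linear
  set res : L → ℂ := fun x => ψ (x : G) with hres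
  have hresc : IsCharacter L res := isCharacter_restrict hψ.isCharacter L
  haveI := Fintype.ofFinite (IrrCharacter L)
  have hcoef : ∀ η : L → ℂ, IsIrrCharacter L η →
      ∃ m : ℕ, classInner res η = m ∧ classInner (indFun L η) ψ = m := by
    intro η hη
    obtain ⟨m, hm⟩ := classInner_nat hresc hη.isCharacter
    refine ⟨m, hm, ?_⟩
    rw [classInner_indFun L η hψ.isClassFunction, ← conj_classInner, ← hres, hm, map_natCast]
  choose! m hm hm' using hcoef
  have hprop : ∀ η ∈ exOn K ⊥, (m η : ℂ) = (dd K η : ℂ) * m φ₀ := by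
    intro η hη
    have hn : degC η = dd K η * degC φ₀ := by
      rw [(hK.degC_eq hη).1, (hK.degC_eq h₀).1, hd₀, mul_one, mul_comm]
    have e1 := congrArg (fun f => classInner f ψ) (hc.rel_base h₀ hη (mem_exOn.mp h₀).1 hn)
    rw [show base φ₀ η (dd K η) = η - (dd K η : ℂ) • φ₀ from rfl] at e1
    simp only [indFun_sub, indFun_smul, classInner_sub_left, classInner_smul_left,
      hm' _ (mem_exOn.mp hη).1, hm' _ (mem_exOn.mp h₀).1,
      classInner_irr_ne (hc.irr η hη) hψ (hnot η hη),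
      classInner_irr_ne (hc.irr φ₀ h₀) hψ (hnot φ₀ h₀)] at e1
    linear_combination e1
  refine ⟨-(m φ₀ : ℤ) + ∑ η ∈ (irrFin L).filter (TrivOn K), (m η : ℤ) * degC η, fun h hh h1 => ?_⟩
  have hexp : res h = ∑ η ∈ irrFin L, classInner res η * η h := by
    conv_lhs => rw [classFunction_expansion (isClassFunction_of_isCharacter hresc)]
    rw [irrFin, Finset.sum_map, Finset.sum_apply]
    rfl
  rw [← Finset.sum_filter_add_sum_filter_not _ (TrivOn K)] at hexp
  have hfil : (irrFin L).filter (fun χ => ¬ TrivOn K χ) = exOn K ⊥ := by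
    ext χ
    simp only [Finset.mem_filter, mem_irrFin, mem_exOn]
    exact ⟨fun h => ⟨h.1, h.2, trivOn_bot χ⟩, fun h => ⟨h.1, h.2.1⟩⟩
  have e2 : ∑ η ∈ (irrFin L).filter (TrivOn K), classInner res η * η h =
      ∑ η ∈ (irrFin L).filter (TrivOn K), (m η : ℂ) * (degC η : ℂ) := by
    refine Finset.sum_congr rfl fun η hη => ?_
    obtain ⟨hi, ht⟩ := Finset.mem_filter.mp hη
    rw [hm _ (mem_irrFin.mp hi), ht h hh, degC_spec (mem_irrFin.mp hi).isCharacter]
  have e3 : ∑ η ∈ exOn K ⊥, classInner res η * η h = -(m φ₀ : ℂ) := by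
    rw [Finset.sum_congr rfl fun η hη => show classInner res η * η h =
      (m φ₀ : ℂ) * ((dd K η : ℂ) * η h) by rw [hm _ (mem_exOn.mp hη).1, hprop η hη]; ring,
      ← Finset.mul_sum, hK.sum_dd_mul hh h1]
    ring
  rw [hfil, e2, e3] at hexp
  simp only [hres] at hexp
  rw [hexp]
  push_cast
  ring

/-- Exceptional characters are not constant on the kernel. -/
theorem OddFrobTI.not_const [K.Normal] (hK : OddFrobTI L K) (hc : CohData L (exOn K ⊥) ε μ)
    {φ : L → ℂ} (hφ : φ ∈ exOn K ⊥) {t : ℂ} (ht : ∀ h ∈ K, h ≠ 1 → μ φ ((h : L) : G) = t) :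
    False := by
  classical
  obtain ⟨a, ha⟩ := hK.exists_shift hc
  set s : ℂ := (ε : ℂ) * (t - (dd K φ : ℂ) * a)
  have hs : ∀ h ∈ K, h ≠ 1 → φ h = s := fun h hh h1 => by
    simp only [s]
    rw [← ht h hh h1, ha φ hφ h hh h1]
    linear_combination (-(φ h)) * sign_sq hc.sign
  obtain ⟨φ', hφ', hne⟩ := hK.exists_ne (φ := φ)
  have hirr := (mem_exOn.mp hφ).1
  have hirr' := (mem_exOn.mp hφ').1
  have h0 := classInner_irr_ne hirr hirr' (Ne.symm hne)
  have hsum' : ∑ x : L, conj (φ' x) = 0 := by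
    have h1 := classInner_irr_ne (isIrrCharacter_one (G := L)) hirr' fun h => (mem_exOn.mp hφ').2.1
      fun k _ => by rw [← h]
    simpa [classInner, Nat.card_pos.ne'] using h1
  have hdiff : ∑ x : L, (φ x - (if x ∈ K then s else 0)) * conj (φ' x) = (φ 1 - s) * conj (φ' 1) := by
    rw [Finset.sum_eq_single (1 : L)]
    · rw [if_pos K.one_mem]
    · intro x _ hx
      by_cases hxK : x ∈ K
      · rw [if_pos hxK, hs x hxK hx, sub_self, zero_mul]
      · rw [if_neg hxK, (hK.supp hφ).van x hxK, sub_self, zero_mul]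
    · simp
  have hK' : ∑ x : L, (if x ∈ K then s else 0) * conj (φ' x) = 0 := by
    rw [Finset.sum_congr rfl fun x _ => show (if x ∈ K then s else 0) * conj (φ' x) = s * conj (φ' x) by
      split_ifs with hx
      · rfl
      · rw [(hK.supp hφ').van x hx, map_zero, mul_zero, mul_zero],
      ← Finset.mul_sum, hsum', mul_zero]
  simp only [sub_mul, Finset.sum_sub_distrib, hK'] at hdiff
  unfold classInner at h0
  rw [mul_eq_zero] at h0
  have h2 := h0.resolve_left (inv_ne_zero (Nat.cast_ne_zero.mpr Nat.card_pos.ne'))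
  rw [h2, sub_zero, eq_comm, ← sub_mul, mul_eq_zero, conj_char_one hirr'.isCharacter] at hdiff
  have hs1 := sub_eq_zero.mp (hdiff.resolve_right hirr'.one_ne_zero)
  exact (mem_exOn.mp hφ).2.1 fun k hk => by
    by_cases h1 : k = 1
    · rw [h1]
    · rw [hs k hk h1, hs1]

end Cfsg.Lib.Characters.Coherence
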